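import Groth.Agent.Deform.TorusExist.Consequences
import Groth.Agent.Deform.GreatestTorus
import Groth.Agent.Deform.GenSub.Img
import Groth.Agent.Deform.MultSubScheme
import Groth.Agent.Deform.Borel.CartanFacts
import Groth.Agent.Deform.Luna.CentralPreimage
import Groth.Agent.S4149

/-!
# The intersection of a maximal torus with a connected subgroup it normalizes
-/

set_option autoImplicit false
set_option linter.style.haveILetI false
set_option linter.unusedSectionVars false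
set_option maxHeartbeats 1000000

universe u

open CategoryTheory CategoryTheory.Limits MonoidalCategory CartesianMonoidalCategory MonObj AlgebraicGeometry

attribute [local instance] CategoryTheory.Hom.monoid CategoryTheory.Hom.group

noncomputable section

namespace Groth.Agent.Deform.TorusExist

open FrobDesc (yK)
open Chev (Pt pimg)

attribute [local instance] geomAlg

variable {k : Type u} [Field k]

/-- A factorization through a monomorphism descends along a field extension. -/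
theorem exists_factor_of_bc {K : Type u} [Field K] [Algebra k K] {X Y G : Over (Spec (CommRingCat.of k))}
    (i : X ⟶ G) [Mono i] (j : Y ⟶ G) (w : Red.bc (yK k K) Y ⟶ Red.bc (yK k K) X)
    (hw : w ≫ (Over.pullback (yK k K)).map i = (Over.pullback (yK k K)).map j) : ∃ f : Y ⟶ X, f ≫ i = j := by
  let F := Over.pullback (yK k K)
  have sq := (IsPullback.of_hasPullback j i).map F
  haveI : IsIso (F.map (pullback.fst j i)) := by
    refine ⟨sq.lift (𝟙 _) w (by rw [Category.id_comp]; exact hw.symm), ?_, sq.lift_fst _ _ _⟩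
    rw [← cancel_mono (F.map (pullback.fst j i)), Category.assoc, sq.lift_fst, Category.id_comp, Category.comp_id]
  haveI := isIso_of_bc (K := K) (pullback.fst j i)
  exact ⟨inv (pullback.fst j i) ≫ pullback.snd j i, by
    rw [Category.assoc, ← pullback.condition, IsIso.inv_hom_id_assoc]⟩

section AlgClosed

variable {K : Type u} [Field K] [IsAlgClosed K]

/-- Every torus of a connected subgroup normalized by a maximal torus is conjugate into it inside the subgroup. -/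
theorem exists_conj_into {G T N : Over (Spec (CommRingCat.of K))} [GrpObj G] [GrpObj T] [GrpObj N] [IsAffine G.left]
    [Smooth G.hom] {i : T ⟶ G} (hi : AGF.IsMaxTorus i) (iN : N ⟶ G) [IsMonHom iN] [IsClosedImmersion iN.left]
    [Smooth N.hom] [ConnectedSpace N.left]
    (hnorm : ∀ (t : Pt T) (n : Pt N), ∃ n' : Pt N, (t ≫ i) * (n ≫ iN) * (t ≫ i)⁻¹ = n' ≫ iN)
    (T' : Over (Spec (CommRingCat.of K))) [GrpObj T'] (f : T' ⟶ N) [IsMonHom f] [Mono f] (hT' : Red.IsTorus T') :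
    ∃ (n : Pt N) (r : T' ⟶ T), r ≫ i = (f ≫ Borel.conj n) ≫ iN := by
  obtain ⟨him, himo, hT, himax⟩ := hi
  haveI := him; haveI := himo
  obtain ⟨hTa, hTl, hTs, hTc⟩ := Deform.TorusBasic.props hT
  haveI := hTa; haveI := hTl; haveI := hTs; haveI := hTc
  haveI : IsAffineHom T.hom := isAffineHom_of_isAffine _
  haveI : IsAffineHom G.hom := isAffineHom_of_isAffine _
  haveI : IsAffine N.left := isAffine_of_isAffineHom iN.left
  haveI : IsAffineHom N.hom := isAffineHom_of_isAffine _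
  haveI : Mono iN := (Over.forget _).mono_of_mono_map (inferInstanceAs (Mono iN.left))
  let w : T ⊗ N ⟶ G := (fst T N ≫ i) * (snd T N ≫ iN)
  have hw : ∀ (t : Pt T) (n : Pt N), lift t n ≫ w = (t ≫ i) * (n ≫ iN) := fun t n => by
    simp only [w, MonObj.comp_mul, lift_fst_assoc, lift_snd_assoc]
  have hmul : ∀ (t : Pt T) (n : Pt N) (t' : Pt T) (n' : Pt N), ∃ n'' : Pt N,
      (t ≫ i) * (n ≫ iN) * ((t' ≫ i) * (n' ≫ iN)) = ((t * t') ≫ i) * (n'' ≫ iN) := fun t n t' n' => by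
    obtain ⟨m, hm⟩ := hnorm t'⁻¹ n
    refine ⟨m * n', ?_⟩
    rw [GrpObj.inv_comp, inv_inv] at hm
    rw [MonObj.mul_comp, MonObj.mul_comp, ← hm]
    group
  let H : Subgroup (Pt G) :=
    { carrier := {p | ∃ (t : Pt T) (n : Pt N), (t ≫ i) * (n ≫ iN) = p}
      one_mem' := ⟨1, 1, by rw [MonObj.one_comp, MonObj.one_comp, _root_.one_mul]⟩
      mul_mem' := by
        rintro _ _ ⟨t, n, rfl⟩ ⟨t', n', rfl⟩
        obtain ⟨m, hm⟩ := hmul t n t' n'
        exact ⟨_, m, hm.symm⟩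
      inv_mem' := by
        rintro _ ⟨t, n, rfl⟩
        obtain ⟨m, hm⟩ := hnorm t n⁻¹
        refine ⟨t⁻¹, m, ?_⟩
        rw [← hm, GrpObj.inv_comp, GrpObj.inv_comp]
        group }
  haveI : LocallyOfFiniteType (T ⊗ N).hom := by rw [Over.tensorObj_hom]; infer_instance
  haveI : QuasiCompact (T ⊗ N).hom := by rw [Over.tensorObj_hom]; infer_instance
  obtain ⟨Y', iY', y₁, hy₁, hy₁c, hY's, hY'q, -, hY'H⟩ := GenSub.exists_subgroup_of_img H
    (fun _ : PUnit.{u + 1} => T ⊗ N) (fun _ => w) (by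
      ext p
      simp only [Set.mem_iUnion, Set.mem_range, exists_const]
      exact ⟨fun ⟨t, n, h⟩ => ⟨lift t n, (hw t n).trans h⟩, fun ⟨z, hz⟩ => ⟨z ≫ fst T N, z ≫ snd T N, by
        rw [← hw, show lift (z ≫ fst T N) (z ≫ snd T N) = z from by simp, hz]⟩⟩)
  haveI := hy₁; haveI := hy₁c; haveI := hY's; haveI := hY'q
  obtain ⟨Y, iY, y₂, hy₂, hy₂c, hy₂o, hYs, hYq, hYc, -⟩ := Chev.exists_neutral Y'
  haveI := hy₂; haveI := hy₂c; haveI := hy₂o; haveI := hYs; haveI := hYq; haveI := hYc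
  haveI : Mono y₁ := (Over.forget _).mono_of_mono_map (inferInstanceAs (Mono y₁.left))
  haveI : Mono y₂ := (Over.forget _).mono_of_mono_map (inferInstanceAs (Mono y₂.left))
  let y₀ : Y ⟶ G := y₂ ≫ y₁
  haveI : IsMonHom y₀ := inferInstanceAs (IsMonHom (y₂ ≫ y₁))
  haveI : IsClosedImmersion y₀.left := inferInstanceAs (IsClosedImmersion (y₂.left ≫ y₁.left))
  haveI : Mono y₀ := inferInstanceAs (Mono (y₂ ≫ y₁))
  haveI : IsAffine Y.left := isAffine_of_isAffineHom y₀.left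
  haveI : IsReduced T.left := GrpSchLib.isReduced_of_smooth_field T.hom
  haveI : IsReduced N.left := GrpSchLib.isReduced_of_smooth_field N.hom
  have hYH : ∀ y : Pt Y, y ≫ y₀ ∈ H := fun y => by
    rw [← SetLike.mem_coe, ← hY'H]
    exact ⟨y ≫ y₂, by simp [y₀]⟩
  have hlift : ∀ (Z : Over (Spec (CommRingCat.of K))) [GrpObj Z] [LocallyOfFiniteType Z.hom] [IsReduced Z.left]
      [ConnectedSpace Z.left] (u : Z ⟶ G) [IsMonHom u], (∀ z : Pt Z, z ≫ u ∈ H) → ∃ v, v ≫ y₀ = u := by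
    intro Z _ _ _ _ u _ hu
    obtain ⟨u', hu'⟩ := Chev.exists_lift_range y₁ u (Chev.mem_of_pts u y₁.left.isClosedEmbedding.isClosed_range fun z => by
      obtain ⟨y, hy⟩ := (hY'H ▸ hu z : (z ≫ u) ∈ Set.range fun y : Pt Y' => y ≫ y₁)
      exact ⟨pimg y, by rw [← Chev.pimg_comp]; exact congrArg pimg hy⟩)
    haveI : IsMonHom u' := Deform.isMonHom_of_comp u' y₁ hu'
    obtain ⟨v, hv⟩ := exists_lift_clopen y₂ u'
    exact ⟨v, by simp only [y₀, reassoc_of% hv, hu']⟩
  obtain ⟨a, ha⟩ := hlift T i fun t => ⟨t, 1, by rw [MonObj.one_comp, _root_.mul_one]⟩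
  obtain ⟨c, hc⟩ := hlift N iN fun n => ⟨1, n, by rw [MonObj.one_comp, _root_.one_mul]⟩
  haveI : IsMonHom a := Deform.isMonHom_of_comp a y₀ ha
  haveI : IsMonHom c := Deform.isMonHom_of_comp c y₀ hc
  haveI : Mono a := mono_of_mono_fac ha
  haveI : Mono c := mono_of_mono_fac hc
  have hamax : AGF.IsMaxTorus a := ⟨inferInstance, inferInstance, hT, fun T'' _ j _ _ u hT'' hu =>
    himax T'' (j ≫ y₀) u hT'' (by rw [← Category.assoc, hu, ha])⟩
  haveI : IsAffineHom Y.hom := isAffineHom_of_isAffine _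
  obtain ⟨U, iU, iu, hu⟩ := Borel.exists_univTorus Y
  obtain ⟨g₁, e, -, he⟩ := hu.conj_of_max a hT hamax.2.2.2
  obtain ⟨g₂, r, -, hr₂⟩ := hu.2.2.2 T' (f ≫ c) hT'
  rw [← Borel.comp_conj] at he hr₂
  obtain ⟨t, n, htn⟩ : ∃ (t : Pt T) (n : Pt N), (t ≫ i) * (n ≫ iN) = (g₁⁻¹ * g₂) ≫ y₀ := by
    exact hYH (g₁⁻¹ * g₂)
  refine ⟨n, r ≫ e.inv, ?_⟩
  have h2 : a = e.hom ≫ iu ≫ Borel.conj g₁⁻¹ := by
    rw [reassoc_of% he, Borel.conj_right_inv, Category.comp_id]
  have h3 : (r ≫ e.inv) ≫ a = (f ≫ c) ≫ Borel.conj (g₁⁻¹ * g₂) := by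
    rw [h2]
    simp only [Category.assoc, Iso.inv_hom_id_assoc]
    rw [reassoc_of% hr₂, Borel.conj_mul]
  have hcy : ∀ g : Pt Y, (f ≫ c) ≫ Borel.conj g ≫ y₀ = AGF.conjBy (g ≫ y₀) (f ≫ iN) := fun g => by
    rw [← Category.assoc, Borel.comp_conj]
    simp only [AGF.conjBy, MonObj.mul_comp, GrpObj.inv_comp, Category.assoc, hc]
  have h4 : (r ≫ e.inv) ≫ i = AGF.conjBy ((t ≫ i) * (n ≫ iN)) (f ≫ iN) := by
    rw [htn, ← hcy, ← Category.assoc (f ≫ c), ← h3, Category.assoc (r ≫ e.inv), ha]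
  have hcm : (toUnit T' ≫ t ≫ i) * ((r ≫ e.inv) ≫ i) = ((r ≫ e.inv) ≫ i) * (toUnit T' ≫ t ≫ i) := by
    rw [← Category.assoc (toUnit T') t i, ← MonObj.mul_comp, ← MonObj.mul_comp, GrpSchLib.RankOne.torus_mul_comm hT]
  rw [Category.assoc f, show f ≫ Borel.conj n ≫ iN = AGF.conjBy (n ≫ iN) (f ≫ iN) by
    rw [← Category.assoc, Borel.comp_conj]
    simp only [AGF.conjBy, MonObj.mul_comp, GrpObj.inv_comp, Category.assoc]]
  calc (r ≫ e.inv) ≫ i = (toUnit T' ≫ t ≫ i)⁻¹ * (((r ≫ e.inv) ≫ i) * (toUnit T' ≫ t ≫ i)) := by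
        rw [← hcm, inv_mul_cancel_left]
    _ = AGF.conjBy (n ≫ iN) (f ≫ iN) := by
        rw [h4]
        simp only [AGF.conjBy, MonObj.comp_mul]
        group

end AlgClosed

/-- **The intersection with a normalized connected subgroup is a maximal torus of it.** -/
theorem exists_inter {G T N : Over (Spec (CommRingCat.of k))} [GrpObj G] [GrpObj T] [GrpObj N] [IsAffine G.left]
    [Smooth G.hom] {iT : T ⟶ G} (hi : AGF.IsMaxTorus iT) (iN : N ⟶ G) [IsMonHom iN] [IsClosedImmersion iN.left]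
    [Smooth N.hom] [ConnectedSpace N.left]
    (hnorm : ∀ (X : Over (Spec (CommRingCat.of k))) (t : X ⟶ T) (n : X ⟶ N),
      ∃ n' : X ⟶ N, (t ≫ iT) * (n ≫ iN) * (t ≫ iT)⁻¹ = n' ≫ iN) :
    ∃ (S : Over (Spec (CommRingCat.of k))) (_ : GrpObj S) (j : S ⟶ N), AGF.IsMaxTorus j ∧
      ∀ (X : Over (Spec (CommRingCat.of k))) (n : X ⟶ N), (∃ s : X ⟶ S, s ≫ j = n) ↔ ∃ t : X ⟶ T, t ≫ iT = n ≫ iN := by
  obtain ⟨him, himo, hT, -⟩ := id hi
  haveI := him; haveI := himo
  obtain ⟨hTa, hTl, hTs, -⟩ := Deform.TorusBasic.props hT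
  haveI := hTa; haveI := hTl; haveI := hTs
  haveI : IsAffineHom T.hom := isAffineHom_of_isAffine _
  haveI : IsAffineHom G.hom := isAffineHom_of_isAffine _
  haveI : IsAffine N.left := isAffine_of_isAffineHom iN.left
  haveI : IsAffineHom N.hom := isAffineHom_of_isAffine _
  haveI : Mono iN := (Over.forget _).mono_of_mono_map (inferInstanceAs (Mono iN.left))
  haveI : IsClosedImmersion iT.left := Borel.isClosedImmersion_of_mono iT
  -- the intersection
  obtain ⟨iZ, hz₁, hz₂⟩ := Luna.exists_grp_pullback iT iN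
  letI := iZ
  let Z := pullback iT iN
  let p₁ : Z ⟶ T := pullback.fst iT iN
  let p₂ : Z ⟶ N := pullback.snd iT iN
  haveI : IsMonHom p₁ := hz₁
  haveI : IsMonHom p₂ := hz₂
  have sq : IsPullback p₁ p₂ iT iN := IsPullback.of_hasPullback iT iN
  haveI : IsClosedImmersion p₁.left :=
    MorphismProperty.of_isPullback (P := @IsClosedImmersion) (sq.map (Over.forget _)).flip (inferInstanceAs (IsClosedImmersion iN.left))
  haveI : IsClosedImmersion p₂.left :=
    MorphismProperty.of_isPullback (P := @IsClosedImmersion) (sq.map (Over.forget _)) (inferInstanceAs (IsClosedImmersion iT.left))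
  haveI : Mono p₂ := (Over.forget _).mono_of_mono_map (inferInstanceAs (Mono p₂.left))
  haveI : LocallyOfFiniteType Z.hom := by rw [← Over.w p₁]; infer_instance
  haveI : Flat Z.hom := inferInstance
  haveI : LocallyOfFinitePresentation Z.hom := inferInstance
  have hZ : SGA3x.IsMultTypeFT Z := Deform.MultSubScheme.isMultTypeFT_of_closed (Deform.isMultTypeFT_of_isTorus hT) p₁
  obtain ⟨S, iS, s, hsm, hsmo, hS, -, hsu⟩ := GreatestTorus.exists_greatest hZ
  haveI := hsm; haveI := hsmo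
  let j : S ⟶ N := s ≫ p₂
  haveI : IsMonHom j := inferInstanceAs (IsMonHom (s ≫ p₂))
  haveI : Mono j := inferInstanceAs (Mono (s ≫ p₂))
  -- over the closure it is universal
  let F := Over.pullback (yK k (GK k))
  obtain ⟨hGa, hGs⟩ : IsAffine (Red.bc (yK k (GK k)) G).left ∧ Smooth (Red.bc (yK k (GK k)) G).hom := by
    haveI : IsAffineHom (Red.bc (yK k (GK k)) G).hom := inferInstanceAs (IsAffineHom (pullback.snd G.hom _))
    exact ⟨isAffine_of_isAffineHom (Red.bc (yK k (GK k)) G).hom, inferInstanceAs (Smooth (pullback.snd G.hom _))⟩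
  haveI := hGa; haveI := hGs
  obtain ⟨hNa, hNs, hNc⟩ := Borel.bc_props (yK k (GK k)) N
  haveI := hNa; haveI := hNs; haveI := hNc
  haveI : IsAffineHom (Red.bc (yK k (GK k)) N).hom := isAffineHom_of_isAffine _
  haveI : IsClosedImmersion (F.map iN).left :=
    MorphismProperty.of_isPullback (P := @IsClosedImmersion) (GrpSchLib.HomSplitLocal.isPullback_map iN (yK k (GK k)))
      inferInstance
  have hiK : AGF.IsMaxTorus (F.map iT) := (isMaxTorus_bc_iff (K := GK k) iT hT).mp hi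
  have hnormK : ∀ (t : Pt (Red.bc (yK k (GK k)) T)) (n : Pt (Red.bc (yK k (GK k)) N)),
      ∃ n' : Pt (Red.bc (yK k (GK k)) N),
        (t ≫ F.map iT) * (n ≫ F.map iN) * (t ≫ F.map iT)⁻¹ = n' ≫ F.map iN := fun t n => by
    obtain ⟨n₀, hn₀⟩ := hnorm _ (FrobDesc.down t) (FrobDesc.down n)
    obtain ⟨n', hn'⟩ := FrobDesc.exists_down_eq n₀
    refine ⟨n', FrobDesc.down_injective ?_⟩
    rw [FrobDesc.down_mul, FrobDesc.down_mul,
      show FrobDesc.down (t ≫ F.map iT)⁻¹ = (FrobDesc.down (t ≫ F.map iT))⁻¹ from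
        (MonoidHom.mk' (fun x : Pt (Red.bc (yK k (GK k)) G) => FrobDesc.down x) FrobDesc.down_mul).map_inv _,
      FrobDesc.down_map, FrobDesc.down_map, FrobDesc.down_map, hn', hn₀]
  have hSK : Red.IsTorus (Red.bc (yK k (GK k)) S) := Deform.isTorus_bc _ hS
  obtain ⟨hSa, hSl, hSs, hSc⟩ := Deform.TorusBasic.props hSK
  haveI := hSa; haveI := hSl; haveI := hSs; haveI := hSc
  haveI : IsAffineHom (Red.bc (yK k (GK k)) S).hom := isAffineHom_of_isAffine _
  haveI : IsClosedImmersion (F.map j).left := Borel.isClosedImmersion_of_mono (F.map j)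
  have huniv : Borel.IsUnivTorus (F.map j) := by
    refine ⟨inferInstance, inferInstance, hSK, fun T' _ f _ _ hT' => ?_⟩
    obtain ⟨n, r, hr⟩ := exists_conj_into hiK (F.map iN) hnormK T' f hT'
    let v := (sq.map F).lift r (f ≫ Borel.conj n) hr
    have hv : v ≫ F.map p₂ = f ≫ Borel.conj n := (sq.map F).lift_snd _ _ _
    haveI : IsMonHom v := Deform.isMonHom_of_comp (v : T' ⟶ Red.bc (yK k (GK k)) Z) (F.map p₂) hv
    obtain ⟨w, hw⟩ := hsu (yK k (GK k)) T' v hT'
    refine ⟨n, w, ?_, ?_⟩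
    · exact Deform.isMonHom_of_comp w (F.map j) (i := f ≫ Borel.conj n) (by rw [F.map_comp, reassoc_of% hw, hv])
    · rw [← Borel.comp_conj, F.map_comp, reassoc_of% hw, hv]
  have hjmax : Red.IsMaximalTorus j := (isMaximalTorus_iff j hS).mpr fun T' _ j' _ _ f hT' hf =>
    huniv.maximal T' j' f hT' hf
  refine ⟨S, iS, j, isMaxTorus_of_isMaximalTorus hjmax, fun X n => ⟨?_, ?_⟩⟩
  · rintro ⟨x, rfl⟩
    exact ⟨x ≫ s ≫ p₁, by simp only [j, Category.assoc, sq.w]⟩
  rintro ⟨t, ht⟩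
  -- the intersection is the torus
  have hjK : AGF.IsMaxTorus (F.map j) :=
    ⟨inferInstance, inferInstance, hSK, fun T' _ j' _ _ f hT' hf => huniv.maximal T' j' f hT' hf⟩
  obtain ⟨⟨C, iC, c, hC, hCc, hCs⟩, -⟩ := S3006.result _ (Red.bc (yK k (GK k)) N) _ (F.map j) inferInstance hSK
  obtain ⟨-, -, hCconn, -, n₁, hn₁⟩ := Borel.cartan_props hjK hC
  haveI := hCc; haveI := hCs; haveI := hCconn
  obtain ⟨hcm, hcmo, hcu⟩ := id hC
  haveI := hcm; haveI := hcmo
  haveI : IsAffine C.left := isAffine_of_isAffineHom c.left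
  haveI : IsAffineHom C.hom := isAffineHom_of_isAffine _
  have hcT := GrpSchLib.RankOne.torus_mul_comm (Deform.isTorus_bc (yK k (GK k)) hT)
  haveI : Mono (F.map iN) := inferInstance
  obtain ⟨u, hu⟩ := (hcu (Red.bc (yK k (GK k)) Z) (F.map p₂)).mpr fun X' x h => by
    rw [← cancel_mono (F.map iN), MonObj.mul_comp, MonObj.mul_comp]
    have e : F.map p₂ ≫ F.map iN = F.map p₁ ≫ F.map iT := by rw [← F.map_comp, ← sq.w, F.map_comp]
    rw [show (x ≫ F.map p₂) ≫ F.map iN = (x ≫ F.map p₁) ≫ F.map iT by rw [Category.assoc, e, Category.assoc],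
      show (h ≫ F.map j) ≫ F.map iN = ((h ≫ F.map s) ≫ F.map p₁) ≫ F.map iT by
        simp only [j, F.map_comp, Category.assoc, e]]
    exact (MonObj.mul_comp _ _ _).symm.trans ((congrArg (· ≫ F.map iT) (hcT _ _ _)).trans (MonObj.mul_comp _ _ _))
  haveI : IsMonHom u := Deform.isMonHom_of_comp u c hu
  haveI : Mono u := mono_of_mono_fac hu
  obtain ⟨u₀, hu₀⟩ := (hcu (Red.bc (yK k (GK k)) S) (F.map j)).mpr fun X' x h => by
    rw [← MonObj.mul_comp, ← MonObj.mul_comp, GrpSchLib.RankOne.torus_mul_comm hSK]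
  haveI : IsMonHom u₀ := Deform.isMonHom_of_comp u₀ c hu₀
  haveI : Mono u₀ := mono_of_mono_fac hu₀
  have hu₀max : Red.IsMaximalTorus u₀ := Borel.isMaximalTorus_of_isMaxTorus
    ⟨inferInstance, inferInstance, hSK, fun T' _ j' _ _ f hT' hf =>
      hjK.2.2.2 T' (j' ≫ c) f hT' (by rw [← Category.assoc, hf, hu₀])⟩
  obtain ⟨M, iM, m, hm, -, -, hMu, hMc⟩ := S4149.result _ C ⟨n₁, fun X' =>
    Subgroup.lowerCentralSeries_eq_bot_iff_upperCentralSeries_eq_top.mpr (hn₁ X')⟩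
  have hZK := GrpSchLib.MultTypeBC.isMultTypeFT_bc (yK k (GK k)) hZ
  obtain ⟨fM, hfM⟩ := hMu _ u hZK
  obtain ⟨w, hw⟩ := S8398.result _ C (fun s => by
      have : C.hom.base ⁻¹' {s} = Set.univ :=
        Set.eq_univ_of_forall fun x => Subsingleton.elim (α := PrimeSpectrum (GK k)) _ _
      rw [this]
      exact isConnected_univ)
    _ u₀ hu₀max _ hZK u fun X' x g => by rw [← hfM, ← Category.assoc]; exact hMc X' _ g
  obtain ⟨q, hq⟩ := exists_factor_of_bc (K := GK k) j p₂ w (by rw [← hu, ← hu₀, reassoc_of% hw])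
  exact ⟨sq.lift t n ht ≫ q, by rw [Category.assoc, hq, sq.lift_snd]⟩

end Groth.Agent.Deform.TorusExist
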