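import Groth.Agent.Deform.TorusExist.Sub
import Groth.Agent.GrpSchLib.GLnDiag
import Groth.Agent.ComodLib.CartierChar0
import Mathlib.Algebra.MvPolynomial.Funext
import Mathlib.LinearAlgebra.Matrix.Charpoly.Coeff
import Mathlib.GroupTheory.FiniteAbelian.Basic

/-!
# A derivation with non-nilpotent action, satisfying a separable additive equation in positive characteristic
-/

set_option autoImplicit false
set_option linter.style.haveILetI false
set_option linter.unusedSectionVars false
set_option maxHeartbeats 1000000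

universe u

open TensorProduct WithConv

noncomputable section

namespace Groth.Agent.Deform.TorusExist

variable {k : Type u} [Field k] {A : Type u} [CommRing A] [HopfAlgebra k A] (P : ConjData k A)

/-- A Leibniz form on the coefficients with values in an extension. -/
theorem exists_derivation_K {K : Type u} [Field K] [Algebra k K] {Λ : Type u} [CommGroup Λ] [Group.FG Λ]
    (hfree : ∀ g : Λ, g ≠ 1 → ∀ n : ℕ, n ≠ 0 → g ^ n ≠ 1) (f : A →ₐ[k] MonoidAlgebra K Λ)
    (hΔ : ∀ i j, Coalgebra.comul (R := K) (f (P.M i j)) = ∑ l, f (P.M i l) ⊗ₜ[K] f (P.M l j))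
    (hε : ∀ i j, Coalgebra.counit (R := K) (f (P.M i j)) = if i = j then 1 else 0)
    (hne : P.mat f.toLinearMap ≠ 1) :
    ∃ d : A →ₗ[k] K, (∀ a ∈ P.S, ∀ b ∈ P.S, d (a * b) = algebraMap k K (Coalgebra.counit (R := k) a) * d b +
      algebraMap k K (Coalgebra.counit (R := k) b) * d a) ∧ ¬ IsNilpotent (P.mat d) := by
  classical
  obtain ⟨Q, χ, hQ, hdiag⟩ := GrpSchLib.GLnDiag.exists_diagonalization (P.mat f.toLinearMap)
    (fun i j => hΔ i j) (fun i j => hε i j)
  let Γ : Subgroup Λ := Subgroup.closure (Set.range χ)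
  haveI : Group.FG Γ := Group.closure_finite_fg (Set.range χ)
  have hχne : ∃ i, χ i ≠ 1 := by
    by_contra h
    push Not at h
    refine hne (hdiag.trans ?_)
    have : GrpSchLib.GLnDiag.diagG (F := K) χ = 1 := by
      show Matrix.diagonal _ = 1
      rw [← Matrix.diagonal_one]
      congr 1
      funext i
      rw [h i, MonoidAlgebra.one_def]
    rw [this, mul_one, ← Matrix.map_mul, Matrix.mul_nonsing_inv _ ((Matrix.isUnit_iff_isUnit_det Q).mp hQ),
      Matrix.map_one _ (map_zero _) (map_one _)]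
  -- a coordinate on the generated group
  haveI : Module.Finite ℤ (Additive Γ) := Module.Finite.iff_addGroup_fg.mpr inferInstance
  haveI : IsAddTorsionFree (Additive Γ) := by
    refine ⟨fun n hn g g' h => ?_⟩
    have h1 : (g.toMul : Γ) ^ n = (g'.toMul : Γ) ^ n := congrArg Additive.toMul h
    have h2 : (((g.toMul : Γ) * (g'.toMul)⁻¹ : Γ) : Λ) ^ n = 1 := by
      rw [← Subgroup.coe_pow, mul_pow, inv_pow, h1, mul_inv_cancel, Subgroup.coe_one]
    by_contra hgg
    refine hfree _ (fun h3 => hgg ?_) n hn h2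
    have h4 : (g.toMul : Γ) * (g'.toMul)⁻¹ = 1 := Subtype.ext h3
    exact (congrArg Additive.ofMul (mul_inv_eq_one.mp h4) : Additive.ofMul (Additive.toMul g) = Additive.ofMul (Additive.toMul g'))
  haveI : Module.Free ℤ (Additive Γ) := inferInstance
  let bΓ := Module.Free.chooseBasis ℤ (Additive Γ)
  have hΓ : Nontrivial (Additive Γ) := by
    obtain ⟨i, hi⟩ := hχne
    exact ⟨⟨Additive.ofMul ⟨χ i, Subgroup.subset_closure ⟨i, rfl⟩⟩, 0, fun h => hi (congrArg (fun g => ((Additive.toMul g : Γ) : Λ)) h)⟩⟩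
  obtain ⟨i₀⟩ := bΓ.index_nonempty
  let φ : Additive Γ →+ ℤ := (bΓ.coord i₀).toAddMonoidHom
  let θ : Λ → K := fun x => if h : x ∈ Γ then (φ (Additive.ofMul ⟨x, h⟩) : K) else 0
  have hθ : ∀ x ∈ Γ, ∀ y ∈ Γ, θ (x * y) = θ x + θ y := fun x hx y hy => by
    simp only [θ, dif_pos hx, dif_pos hy, dif_pos (Γ.mul_mem hx hy)]
    rw [← Int.cast_add, ← map_add]
    rfl
  have hgen : ∃ i, θ (χ i) ≠ 0 := by
    by_contra h
    push Not at h
    let H : Subgroup Λ :=
      { carrier := {x | x ∈ Γ ∧ θ x = 0}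
        mul_mem' := fun {x y} hx hy => ⟨Γ.mul_mem hx.1 hy.1, by rw [hθ x hx.1 y hy.1, hx.2, hy.2, add_zero]⟩
        one_mem' := ⟨Γ.one_mem, by
          have := hθ 1 Γ.one_mem 1 Γ.one_mem
          rw [mul_one] at this
          exact (add_eq_left.mp this.symm)⟩
        inv_mem' := fun {x} hx => ⟨Γ.inv_mem hx.1, by
          have := hθ x hx.1 x⁻¹ (Γ.inv_mem hx.1)
          rw [mul_inv_cancel, hx.2, zero_add] at this
          rw [← this]
          have h1 := hθ 1 Γ.one_mem 1 Γ.one_mem
          rw [mul_one] at h1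
          exact (add_eq_left.mp h1.symm)⟩ }
    have hle : Γ ≤ H := (Subgroup.closure_le _).mpr fun x hx => by
      obtain ⟨i, rfl⟩ := hx; exact ⟨Subgroup.subset_closure ⟨i, rfl⟩, h i⟩
    have hx := (hle (bΓ i₀).toMul.2).2
    simp only [θ, dif_pos (bΓ i₀).toMul.2] at hx
    simp [φ] at hx
  let δ : MonoidAlgebra K Λ →ₗ[K] K := (MonoidAlgebra.basis Λ K).constr K θ
  have hδs : ∀ x (c : K), δ (MonoidAlgebra.single x c) = c * θ x := fun x c => by
    rw [show MonoidAlgebra.single x c = c • MonoidAlgebra.basis Λ K x by simp, map_smul, Module.Basis.constr_basis,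
      smul_eq_mul]
  let W : Submodule K (MonoidAlgebra K Λ) := Submodule.span K ((fun x => MonoidAlgebra.single x (1 : K)) '' Γ)
  have hW1 : (1 : MonoidAlgebra K Λ) ∈ W := Submodule.subset_span ⟨1, Γ.one_mem, rfl⟩
  have hWm : ∀ y ∈ W, ∀ z ∈ W, y * z ∈ W ∧ δ (y * z) = Bialgebra.counitAlgHom K (MonoidAlgebra K Λ) y * δ z +
      Bialgebra.counitAlgHom K (MonoidAlgebra K Λ) z * δ y := by
    intro y hy z hz
    induction hy, hz using Submodule.span_induction₂ with
    | mem_mem y z hy hz =>
      obtain ⟨a, ha, rfl⟩ := hy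
      obtain ⟨b, hb, rfl⟩ := hz
      refine ⟨Submodule.subset_span ⟨a * b, Γ.mul_mem ha hb, by simp [MonoidAlgebra.single_mul_single]⟩, ?_⟩
      simp only [MonoidAlgebra.single_mul_single, one_mul, hδs, hθ a ha b hb, Bialgebra.counitAlgHom_apply,
        MonoidAlgebra.counit_single, CommSemiring.counit_apply]
      ring
    | zero_left => simp
    | zero_right => simp
    | add_left x y z _ _ _ hx hy =>
      refine ⟨by rw [add_mul]; exact W.add_mem hx.1 hy.1, ?_⟩
      rw [add_mul, map_add, hx.2, hy.2, map_add, map_add]; ring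
    | add_right x y z _ _ _ hx hy =>
      refine ⟨by rw [mul_add]; exact W.add_mem hx.1 hy.1, ?_⟩
      rw [mul_add, map_add, hx.2, hy.2, map_add, map_add]; ring
    | smul_left r x y _ _ h =>
      refine ⟨by rw [smul_mul_assoc]; exact W.smul_mem r h.1, ?_⟩
      rw [smul_mul_assoc, map_smul, h.2, map_smul, map_smul, smul_eq_mul, smul_eq_mul, smul_eq_mul]; ring
    | smul_right r x y _ _ h =>
      refine ⟨by rw [mul_smul_comm]; exact W.smul_mem r h.1, ?_⟩
      rw [mul_smul_comm, map_smul, h.2, map_smul, map_smul, smul_eq_mul, smul_eq_mul, smul_eq_mul]; ring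
  let Qi := Q⁻¹
  let D : (Fin P.n → Λ) → Matrix (Fin P.n) (Fin P.n) (MonoidAlgebra K Λ) := fun c =>
    Q.map (algebraMap K _) * GrpSchLib.GLnDiag.diagG c * Qi.map (algebraMap K _)
  have hDW : ∀ c : Fin P.n → Λ, (∀ i, c i ∈ Γ) → ∀ i j, D c i j ∈ W := by
    intro c hc i j
    simp only [D, Matrix.mul_apply, GrpSchLib.GLnDiag.diagG, Matrix.diagonal_apply, mul_ite, mul_zero,
      Finset.sum_ite_eq', Finset.mem_univ, if_true, Matrix.map_apply]
    refine Submodule.sum_mem _ fun l _ => ?_
    rw [mul_comm (algebraMap K (MonoidAlgebra K Λ) (Q i l)), mul_assoc, ← map_mul, mul_comm, ← Algebra.smul_def]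
    exact W.smul_mem _ (Submodule.subset_span ⟨c l, hc l, rfl⟩)
  have hM : ∀ i j, f (P.M i j) = D χ i j := fun i j => congrFun (congrFun hdiag i) j
  have hSM : ∀ i j, f (HopfAlgebraStruct.antipode (R := k) (P.M i j)) = D (fun i => (χ i)⁻¹) i j := by
    let N : Matrix (Fin P.n) (Fin P.n) (MonoidAlgebra K Λ) :=
      Matrix.of fun i j => f (HopfAlgebraStruct.antipode (R := k) (P.M i j))
    have h1 : N * D χ = 1 := by
      ext i j
      rw [Matrix.mul_apply]
      simp only [← hM, N, Matrix.of_apply, ← map_mul, ← map_sum]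
      have h := HopfAlgebra.mul_antipode_rTensor_comul_apply (R := k) (P.M i j)
      rw [P.comod.comul, map_sum, map_sum] at h
      simp only [LinearMap.rTensor_tmul, LinearMap.mul'_apply] at h
      rw [h, P.comod.counit, Matrix.one_apply]
      split <;> simp
    have hQm : Qi.map (algebraMap K (MonoidAlgebra K Λ)) * Q.map (algebraMap K _) = 1 := by
      rw [← Matrix.map_mul, Matrix.nonsing_inv_mul _ ((Matrix.isUnit_iff_isUnit_det Q).mp hQ),
        Matrix.map_one _ (map_zero _) (map_one _)]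
    have hQm' : Q.map (algebraMap K (MonoidAlgebra K Λ)) * Qi.map (algebraMap K _) = 1 := by
      rw [← Matrix.map_mul, Matrix.mul_nonsing_inv _ ((Matrix.isUnit_iff_isUnit_det Q).mp hQ),
        Matrix.map_one _ (map_zero _) (map_one _)]
    have hd : GrpSchLib.GLnDiag.diagG (F := K) χ * GrpSchLib.GLnDiag.diagG (fun i => (χ i)⁻¹) = 1 := by
      rw [GrpSchLib.GLnDiag.diagG, GrpSchLib.GLnDiag.diagG, Matrix.diagonal_mul_diagonal, ← Matrix.diagonal_one]
      congr 1
      funext i
      rw [MonoidAlgebra.single_mul_single, mul_inv_cancel, mul_one, MonoidAlgebra.one_def]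
    have h2 : D χ * D (fun i => (χ i)⁻¹) = 1 := by
      simp only [D, mul_assoc]
      rw [← mul_assoc (Qi.map _) (Q.map _), hQm, one_mul, ← mul_assoc (GrpSchLib.GLnDiag.diagG χ), hd, one_mul, hQm']
    intro i j
    exact congrFun (congrFun (left_inv_eq_right_inv h1 h2 : N = D (fun i => (χ i)⁻¹)) i) j
  have hSW : ∀ a ∈ P.S, f a ∈ W ∧
      Bialgebra.counitAlgHom K (MonoidAlgebra K Λ) (f a) = algebraMap k K (Coalgebra.counit (R := k) a) := by
    have hD0 : ∀ c i j, Bialgebra.counitAlgHom K (MonoidAlgebra K Λ) (D c i j) = if i = j then 1 else 0 := by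
      intro c i j
      have h : (D c).map (Bialgebra.counitAlgHom K (MonoidAlgebra K Λ)) = 1 := by
        simp only [D, Matrix.map_mul, Matrix.map_map]
        have e : ∀ R : Matrix (Fin P.n) (Fin P.n) K,
            R.map ((Bialgebra.counitAlgHom K (MonoidAlgebra K Λ)) ∘ algebraMap K (MonoidAlgebra K Λ)) = R := fun R => by
          ext a b; simp
        rw [e, e, GrpSchLib.GLnDiag.diagG, Matrix.diagonal_map (map_zero _)]
        rw [show (fun i => Bialgebra.counitAlgHom K (MonoidAlgebra K Λ) (MonoidAlgebra.single (c i) (1 : K))) = fun _ => 1 by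
          funext a; simp [MonoidAlgebra.counit_single]]
        rw [Matrix.diagonal_one, mul_one, Matrix.mul_nonsing_inv _ ((Matrix.isUnit_iff_isUnit_det Q).mp hQ)]
      exact (congrFun (congrFun h i) j).trans (Matrix.one_apply)
    intro a ha
    induction ha using Algebra.adjoin_induction with
    | mem x hx =>
      rcases hx with ⟨⟨i, j⟩, rfl⟩ | ⟨⟨i, j⟩, rfl⟩
      · refine ⟨by rw [hM]; exact hDW χ (fun l => Subgroup.subset_closure ⟨l, rfl⟩) i j, ?_⟩
        rw [hM, hD0, P.comod.counit]; split <;> simp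
      · refine ⟨by rw [hSM]; exact hDW _ (fun l => Γ.inv_mem (Subgroup.subset_closure ⟨l, rfl⟩)) i j, ?_⟩
        rw [hSM, hD0]
        have h2 : Coalgebra.counit (R := k) (HopfAlgebraStruct.antipode (R := k) (P.M i j)) =
            Coalgebra.counit (R := k) (P.M i j) := HopfAlgebra.counit_antipode _
        rw [h2, P.comod.counit]; split <;> simp
    | algebraMap r =>
      rw [AlgHom.commutes, IsScalarTower.algebraMap_apply k K (MonoidAlgebra K Λ), Algebra.algebraMap_eq_smul_one
        (A := MonoidAlgebra K Λ)]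
      refine ⟨W.smul_mem _ hW1, ?_⟩
      rw [map_smul, map_one, smul_eq_mul, mul_one, Bialgebra.counit_algebraMap]
    | add x y _ _ hx hy => exact ⟨by rw [map_add]; exact W.add_mem hx.1 hy.1, by rw [map_add, map_add, hx.2, hy.2, map_add, map_add]⟩
    | mul x y _ _ hx hy =>
      exact ⟨by rw [map_mul]; exact (hWm _ hx.1 _ hy.1).1, by rw [map_mul, map_mul, hx.2, hy.2, Bialgebra.counit_mul, map_mul]⟩
  let d : A →ₗ[k] K := δ.restrictScalars k ∘ₗ f.toLinearMap
  refine ⟨d, fun a ha b hb => ?_, ?_⟩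
  · show δ (f (a * b)) = _
    rw [map_mul, (hWm _ (hSW a ha).1 _ (hSW b hb).1).2, (hSW a ha).2, (hSW b hb).2]
    rfl
  · have hmat : P.mat d = Q * Matrix.diagonal (fun i => θ (χ i)) * Q⁻¹ := by
      ext i j
      show δ (f (P.M i j)) = _
      rw [hM]
      simp only [D, Qi, Matrix.mul_apply, GrpSchLib.GLnDiag.diagG, Matrix.diagonal_apply, mul_ite, mul_zero,
        Finset.sum_ite_eq', Finset.mem_univ, if_true, Matrix.map_apply, map_sum]
      refine Finset.sum_congr rfl fun l _ => ?_
      rw [← Algebra.commutes, ← Algebra.smul_def, ← Algebra.smul_def, smul_smul, map_smul, hδs, smul_eq_mul]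
      ring
    rintro ⟨m, hm⟩
    obtain ⟨i, hi⟩ := hgen
    obtain ⟨u, hu⟩ := hQ
    have hnil : IsNilpotent (Matrix.diagonal fun i => θ (χ i)) := by
      refine ⟨m, ?_⟩
      rw [hmat, ← hu, ← Matrix.coe_units_inv, Units.conj_pow, Units.mul_left_eq_zero, Units.mul_right_eq_zero] at hm
      exact hm
    obtain ⟨m, hm⟩ := hnil
    rw [Matrix.diagonal_pow] at hm
    exact pow_ne_zero m hi (by simpa using congrFun (congrFun hm i) i)

/-- A Leibniz form with non-nilpotent matrix over an infinite field. -/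
theorem exists_derivation [Infinite k] {K : Type u} [Field K] [Algebra k K] (d : A →ₗ[k] K)
    (hd : ∀ a ∈ P.S, ∀ b ∈ P.S, d (a * b) = algebraMap k K (Coalgebra.counit (R := k) a) * d b +
      algebraMap k K (Coalgebra.counit (R := k) b) * d a) (hn : ¬ IsNilpotent (P.mat d)) :
    ∃ e : A →ₗ[k] k, IsDerOn P.S e ∧ ¬ IsNilpotent (P.mat e) := by
  classical
  letI := GrpSchLib.SubHopf.hopf P.S P.isHopf
  haveI := P.finiteType
  obtain ⟨r, x, L, hx, hy⟩ := ComodLib.Cartier0.exists_dual_system (k := k) (A := P.S)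
  choose e he using fun l => LinearMap.exists_extend (p := P.S.toSubmodule) ((L l).1 : P.S.toSubmodule →ₗ[k] k)
  have he' : ∀ l, ∀ b : P.S, e l (b : A) = (L l).1 b := fun l b => LinearMap.congr_fun (he l) b
  have hder : ∀ l, IsDerOn P.S (e l) := fun l a ha b hb => by
    rw [show a * b = ((⟨a, ha⟩ * ⟨b, hb⟩ : P.S) : A) from rfl, he', (L l).2, ← he' l ⟨a, ha⟩, ← he' l ⟨b, hb⟩]
    rfl
  by_contra hcon
  push Not at hcon
  let T : Matrix (Fin P.n) (Fin P.n) (MvPolynomial (Fin r) k) :=
    ∑ l : Fin r, (MvPolynomial.X l : MvPolynomial (Fin r) k) • (P.mat (e l)).map (MvPolynomial.C : k →+* MvPolynomial (Fin r) k)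
  have hT : T ^ P.n = 0 := by
    refine Matrix.ext fun i j => MvPolynomial.funext fun c => ?_
    have h1 : (T ^ P.n).map (MvPolynomial.eval c) = (∑ l, c l • P.mat (e l)) ^ P.n := by
      rw [Matrix.map_pow]
      congr 1
      ext a b
      simp [T, Matrix.sum_apply]
    have h2 : P.mat (∑ l, c l • e l) = ∑ l, c l • P.mat (e l) := by
      ext a b; simp [ConjData.mat, Matrix.sum_apply]
    have h3 := Matrix.isNilpotent_charpoly_sub_pow_of_isNilpotent
      (hcon (∑ l, c l • e l) (IsDerOn.sum _ fun l _ => (hder l).smul _))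
    rw [isNilpotent_iff_eq_zero, sub_eq_zero, Fintype.card_fin] at h3
    have h4 := Matrix.aeval_self_charpoly (P.mat (∑ l, c l • e l))
    rw [h3, map_pow, Polynomial.aeval_X, h2] at h4
    rw [h4] at h1
    rw [show MvPolynomial.eval c ((0 : Matrix (Fin P.n) (Fin P.n) (MvPolynomial (Fin r) k)) i j) = 0 from map_zero _]
    exact congrFun (congrFun h1 i) j
  let cK : Fin r → K := fun l => d (x l : A)
  have hdS : ∀ b : P.S, d (b : A) = ∑ l, cK l * algebraMap k K ((L l).1 b) := by
    have h1 : d 1 = 0 := by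
      have := hd 1 P.S.one_mem 1 P.S.one_mem
      simp only [mul_one, Bialgebra.counit_one, map_one, one_mul] at this
      exact add_eq_left.mp this.symm
    have h0 : ∀ z ∈ ComodLib.Cartier0.aug k P.S ^ 2, d (z : A) = 0 := fun z hz => by
      rw [pow_two] at hz
      induction hz using Submodule.mul_induction_on' with
      | mem_mul_mem p hp q hq =>
        have hp' : Coalgebra.counit (R := k) (p : A) = 0 := hp
        have hq' : Coalgebra.counit (R := k) (q : A) = 0 := hq
        rw [MulMemClass.coe_mul, hd _ p.2 _ q.2, hp', hq', map_zero, zero_mul, zero_mul, add_zero]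
      | add p _ q _ hp hq => rw [AddMemClass.coe_add, map_add, hp, hq, add_zero]
    intro b
    let y : P.S := b - algebraMap k P.S (Coalgebra.counit (R := k) (b : A))
    have hyA : y ∈ ComodLib.Cartier0.aug k P.S := ComodLib.Cartier0.sub_counit_mem b
    have h2 := h0 _ (hy y hyA)
    have hLy : ∀ l, (L l).1 y = (L l).1 b := fun l => by
      show (L l).1 (b - algebraMap k P.S _) = _
      rw [Algebra.algebraMap_eq_smul_one, map_sub, map_smul, ComodLib.Cartier0.Tan.one, smul_zero, sub_zero]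
    have hdy : d (y : A) = d (b : A) := by
      show d ((b : A) - algebraMap k A _) = _
      rw [Algebra.algebraMap_eq_smul_one, map_sub, map_smul, h1, smul_zero, sub_zero]
    rw [Subalgebra.coe_sub, map_sub, AddSubmonoidClass.coe_finsetSum, map_sum, hdy, sub_eq_zero] at h2
    rw [h2]
    refine Finset.sum_congr rfl fun l _ => ?_
    rw [Subalgebra.coe_smul, map_smul, hLy, Algebra.smul_def, mul_comm]
  refine hn ⟨P.n, ?_⟩
  have h5 : T.map (MvPolynomial.aeval cK) = P.mat d := by
    ext a b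
    simp only [T, Matrix.map_apply, Matrix.sum_apply, Matrix.smul_apply, map_sum, smul_eq_mul, map_mul,
      MvPolynomial.aeval_X, MvPolynomial.aeval_C, ConjData.mat, Matrix.of_apply]
    rw [show P.M a b = ((⟨_, P.M_mem a b⟩ : P.S) : A) from rfl, hdS]
    exact Finset.sum_congr rfl fun l _ => by rw [he']
  have h6 := congrArg ((MvPolynomial.aeval cK : MvPolynomial (Fin r) k →ₐ[k] K).mapMatrix) hT
  rw [map_pow, map_zero] at h6
  rwa [show (MvPolynomial.aeval cK : MvPolynomial (Fin r) k →ₐ[k] K).mapMatrix T = P.mat d from h5] at h6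

open Polynomial in
/-- In positive characteristic some `p`-power satisfies a separable additive equation. -/
theorem exists_toral (p : ℕ) [Fact p.Prime] [CharP k p] (e : A →ₗ[k] k) (he : IsDerOn P.S e)
    (hn : ¬ IsNilpotent (P.mat e)) :
    ∃ (d : WithConv (A →ₗ[k] k)) (R : k[X]), IsDerOn P.S d.ofConv ∧ ¬ IsNilpotent (P.mat d.ofConv) ∧ R.coeff 0 = 1 ∧
      ∀ a ∈ P.S, (aeval d (X * R)).ofConv a = 0 := by
  classical
  have hp := (Fact.out : p.Prime)
  let N := P.n * P.n + 1
  let F : Fin N → Matrix (Fin P.n) (Fin P.n) k := fun i => P.mat e ^ p ^ (i : ℕ)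
  have hdep : ¬ LinearIndependent k F := fun h => by
    have := h.fintype_card_le_finrank
    rw [Fintype.card_fin, Module.finrank_matrix, Fintype.card_fin, Module.finrank_self, mul_one] at this
    omega
  obtain ⟨g, hg, hgne⟩ := Fintype.not_linearIndependent_iff.mp hdep
  let supp := Finset.univ.filter fun i => g i ≠ 0
  have hsupp : supp.Nonempty := by
    obtain ⟨i, hi⟩ := hgne
    exact ⟨i, Finset.mem_filter.mpr ⟨Finset.mem_univ _, hi⟩⟩
  let j := supp.min' hsupp
  have hj : g j ≠ 0 := (Finset.mem_filter.mp (supp.min'_mem hsupp)).2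
  have hlow : ∀ i, g i ≠ 0 → (j : ℕ) ≤ i := fun i hi =>
    supp.min'_le i (Finset.mem_filter.mpr ⟨Finset.mem_univ _, hi⟩)
  let d : WithConv (A →ₗ[k] k) := toConv e ^ p ^ (j : ℕ)
  let R : k[X] := ∑ i ∈ supp, C (g i / g j) * X ^ (p ^ ((i : ℕ) - j) - 1)
  have hd : IsDerOn P.S d.ofConv := P.isDerOn_pow_iter p (d := toConv e) he j
  have hmd : P.mat d.ofConv = P.mat e ^ p ^ (j : ℕ) := P.mat_pow (toConv e) _
  have hXR : X * R = ∑ i ∈ supp, C (g i / g j) * X ^ (p ^ ((i : ℕ) - j)) := by
    rw [Finset.mul_sum]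
    refine Finset.sum_congr rfl fun i _ => ?_
    rw [mul_left_comm, ← pow_succ', Nat.sub_add_cancel (Nat.one_le_pow _ _ hp.pos)]
  have hev : aeval d (X * R) = toConv (∑ i ∈ supp, (g i / g j) • (d ^ p ^ ((i : ℕ) - j)).ofConv) := by
    rw [hXR, map_sum]
    refine WithConv.ofConv_injective ?_
    rw [WithConv.ofConv_toConv, WithConv.ofConv_sum]
    refine Finset.sum_congr rfl fun i _ => ?_
    rw [map_mul, aeval_C, map_pow, aeval_X, ← Algebra.smul_def]
    rfl
  refine ⟨d, R, hd, fun ⟨m, hm⟩ => hn ⟨p ^ (j : ℕ) * m, by rw [pow_mul, ← hmd, hm]⟩, ?_, ?_⟩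
  · simp only [R, finsetSum_coeff, coeff_C_mul_X_pow]
    rw [Finset.sum_eq_single j]
    · simp [hj]
    · intro i hi hij
      rw [if_neg]
      have hlt : (j : ℕ) < i := lt_of_le_of_ne (hlow i (Finset.mem_filter.mp hi).2) fun h => hij (Fin.ext h.symm)
      have : 1 < p ^ ((i : ℕ) - j) := Nat.one_lt_pow (by omega) hp.one_lt
      omega
    · intro h; exact absurd (supp.min'_mem hsupp) h
  · intro a ha
    rw [hev, WithConv.ofConv_toConv]
    refine P.eq_zero_of_mat (IsDerOn.sum _ fun i _ => (P.isDerOn_pow_iter p hd _).smul _) ?_ a ha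
    have h1 : P.mat (∑ i ∈ supp, (g i / g j) • (d ^ p ^ ((i : ℕ) - j)).ofConv) = ∑ i ∈ supp, (g i / g j) • F i := by
      ext a b
      simp only [ConjData.mat, Matrix.of_apply, LinearMap.sum_apply, LinearMap.smul_apply, Matrix.sum_apply, Matrix.smul_apply]
      refine Finset.sum_congr rfl fun i hi => ?_
      congr 1
      have h2 : (d ^ p ^ ((i : ℕ) - j)) = toConv e ^ p ^ (i : ℕ) := by
        show (toConv e ^ p ^ (j : ℕ)) ^ _ = _
        rw [← pow_mul, ← pow_add, Nat.add_sub_cancel' (hlow i (Finset.mem_filter.mp hi).2)]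
      rw [h2]
      exact congrFun (congrFun (P.mat_pow (toConv e) _) a) b
    rw [h1]
    have h3 : ∑ i ∈ supp, g i • F i = 0 := by
      rw [Finset.sum_filter]
      refine Eq.trans ?_ hg
      refine Finset.sum_congr rfl fun i _ => ?_
      split_ifs with h
      · rfl
      · rw [not_not.mp h, zero_smul]
    rw [show (∑ i ∈ supp, (g i / g j) • F i) = (g j)⁻¹ • ∑ i ∈ supp, g i • F i by
      rw [Finset.smul_sum]; exact Finset.sum_congr rfl fun i _ => by rw [smul_smul, inv_mul_eq_div], h3, smul_zero]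

end Groth.Agent.Deform.TorusExist
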