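import Groth.Agent.Deform.TorusExist.Key
import Groth.Agent.Deform.TorusExist.Toral
import Groth.Agent.Deform.Borel.Tori
import Groth.Agent.Deform.Borel.TorusCentral
import Groth.Agent.Deform.Borel.CentBase
import Groth.Agent.Deform.Borel.CartanFacts
import Groth.Agent.S3922
import Groth.Agent.S8393
import Groth.Agent.S4148
import Groth.Agent.S3006
import Groth.Agent.S3908
import Groth.Agent.S8398

/-!
# Maximal tori of smooth connected affine groups over any field
-/

set_option autoImplicit false
set_option linter.style.haveILetI false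
set_option linter.unusedSectionVars false
set_option maxHeartbeats 4000000

universe u

open CategoryTheory CategoryTheory.Limits MonoidalCategory CartesianMonoidalCategory MonObj AlgebraicGeometry
open WithConv
open scoped TensorProduct

attribute [local instance] CategoryTheory.Hom.monoid CategoryTheory.Hom.group

noncomputable section

namespace Groth.Agent.Deform.TorusExist

open GrpSchLib.AffineHopf (sp spMap)
open FrobDesc (yK toPt down)
open Chev (Pt pimg)

/-- The algebraically closed field of the geometric point. -/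
abbrev GK (k : Type u) [Field k] : Type u :=
  AlgebraicClosure ((Spec (CommRingCat.of k)).residueField (IsLocalRing.closedPoint k))

/-- The structure given by the geometric point. -/
abbrev geomAlg (k : Type u) [Field k] : Algebra k (GK k) :=
  (Spec.preimage (Red.geomPt (S := Spec (CommRingCat.of k)) (IsLocalRing.closedPoint k))).hom.toAlgebra

attribute [local instance] geomAlg

variable {k : Type u} [Field k]

theorem yK_geom (k : Type u) [Field k] :
    yK k (GK k) = Red.geomPt (S := Spec (CommRingCat.of k)) (IsLocalRing.closedPoint k) :=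
  Spec.map_preimage _

/-- Maximality of a torus is tested at the geometric point. -/
theorem isMaximalTorus_iff {T G : Over (Spec (CommRingCat.of k))} [GrpObj T] [GrpObj G] (i : T ⟶ G) [IsMonHom i]
    [Mono i] (hT : Red.IsTorus T) : Red.IsMaximalTorus i ↔ Deform.MaxAt ((Over.pullback (yK k (GK k))).map i) := by
  have key : ∀ y : Spec (CommRingCat.of (GK k)) ⟶ Spec (CommRingCat.of k), y = yK k (GK k) →
      (Deform.MaxAt ((Over.pullback y).map i) ↔ Deform.MaxAt ((Over.pullback (yK k (GK k))).map i)) := by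
    rintro y rfl; rfl
  refine ⟨fun h => (key _ (yK_geom k).symm).mp (h.2.2.2 _), fun h => ⟨inferInstance, inferInstance, hT, fun s => ?_⟩⟩
  obtain rfl : s = IsLocalRing.closedPoint k := Subsingleton.elim (α := PrimeSpectrum k) _ _
  exact (key _ (yK_geom k).symm).mpr h

/-- Transport of a maximal torus along an isomorphism of groups. -/
theorem isMaximalTorus_comp_iso {T G G' : Over (Spec (CommRingCat.of k))} [GrpObj T] [GrpObj G] [GrpObj G']
    {i : T ⟶ G} (h : Red.IsMaximalTorus i) (e : G ≅ G') [IsMonHom e.hom] : Red.IsMaximalTorus (i ≫ e.hom) := by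
  obtain ⟨him, himo, hT, -⟩ := id h
  haveI := him; haveI := himo
  haveI : IsMonHom e.inv := inferInstance
  refine (isMaximalTorus_iff _ hT).mpr fun T' _ j _ _ f hT' hf => ?_
  let F := Over.pullback (yK k (GK k))
  refine (isMaximalTorus_iff i hT).mp h T' (j ≫ F.map e.inv) f hT' ?_
  rw [reassoc_of% hf, ← F.map_comp, Category.assoc, e.hom_inv_id, Category.comp_id]

section

variable {K : Type u} [Field K] [IsAlgClosed K] [Algebra k K]
variable {A : Type u} [CommRing A] [HopfAlgebra k A]

/-- A tensor killed by all pairs of points of a torus vanishes. -/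
theorem eq_zero_of_forall_pair {M : Type u} [CommGroup M] [Group.FG M]
    (hfree : ∀ g : M, g ≠ 1 → ∀ n : ℕ, n ≠ 0 → g ^ n ≠ 1) (z : MonoidAlgebra K M ⊗[K] MonoidAlgebra K M)
    (h : ∀ u w : MonoidAlgebra K M →ₐ[K] K, Algebra.TensorProduct.lift u w (fun _ _ => .all _ _) z = 0) : z = 0 := by
  classical
  let b := Module.Free.chooseBasis K (MonoidAlgebra K M)
  refine (TensorProduct.equivFinsuppOfBasisRight b).injective (Finsupp.ext fun l => ?_)
  have hl : ∀ t : MonoidAlgebra K M ⊗[K] MonoidAlgebra K M, TensorProduct.equivFinsuppOfBasisRight b t l =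
      TensorProduct.rid K _ (LinearMap.lTensor _ (b.coord l) t) := by
    intro t
    induction t using TensorProduct.induction_on with
    | zero => simp
    | tmul x y => simp
    | add x y hx hy => simp only [map_add, Finsupp.add_apply, hx, hy]
  rw [map_zero, Finsupp.zero_apply, hl]
  refine eq_zero_of_torsion hfree _ fun φ _ => ?_
  let u := MonoidAlgebra.lift K K M ((Units.coeHom K).comp φ)
  let s : MonoidAlgebra K M ⊗[K] MonoidAlgebra K M → MonoidAlgebra K M := fun t =>
    TensorProduct.lid K _ (LinearMap.rTensor (MonoidAlgebra K M) u.toLinearMap t)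
  have h1 : ∀ (w : MonoidAlgebra K M →ₐ[K] K) t, w (s t) = Algebra.TensorProduct.lift u w (fun _ _ => .all _ _) t := by
    intro w t
    induction t using TensorProduct.induction_on with
    | zero => simp [s]
    | tmul x y => simp [s, u]
    | add x y hx hy => simp only [s, map_add] at hx hy ⊢; rw [hx, hy]
  have h2 : ∀ t, u (TensorProduct.rid K _ (LinearMap.lTensor _ (b.coord l) t)) = b.coord l (s t) := by
    intro t
    induction t using TensorProduct.induction_on with
    | zero => simp [s]
    | tmul x y => simp [s, mul_comm]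
    | add x y hx hy => simp only [s, map_add] at hx hy ⊢; rw [hx, hy]
  have hs : s z = 0 := eq_zero_of_torsion hfree _ fun ψ _ => (h1 _ z).trans (h u _)
  exact (h2 z).trans (by rw [hs, map_zero])

/-- A point acting trivially on generators commutes with all points. -/
theorem ConjData.comm_of_trivial (P : ConjData k A) (t g : WithConv (A →ₐ[k] K))
    (h : ∀ i j, t.ofConv (P.M i j) = if i = j then 1 else 0) : t * g = g * t := by
  classical
  letI : Group (WithConv (A →ₐ[k] K)) := MultTypeLib.algConvGroup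
  let φ : A ⊗[k] A →ₐ[k] K := Algebra.TensorProduct.lift g.ofConv t.ofConv fun _ _ => .all _ _
  have h1 : toConv (φ.comp (conjHom k A)) = t⁻¹ * g * t := by
    rw [map_conjHom, show φ.comp Algebra.TensorProduct.includeRight = t.ofConv from AlgHom.ext fun x => by simp [φ],
      show φ.comp Algebra.TensorProduct.includeLeft = g.ofConv from AlgHom.ext fun x => by simp [φ]]
  have h2 : φ.comp (conjHom k A) = g.ofConv := by
    refine AlgHom.ext_of_adjoin_eq_top P.gen ?_
    rintro _ ⟨j, rfl⟩
    rw [AlgHom.comp_apply, P.conj_v, map_sum]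
    simp [φ, h]
  have h3 : t⁻¹ * g * t = g := h1.symm.trans (congrArg toConv h2)
  calc t * g = t * (t⁻¹ * g * t) := by rw [h3]
    _ = g * t := by rw [← _root_.mul_assoc, ← _root_.mul_assoc, mul_inv_cancel, _root_.one_mul]

/-- A torus which is not central yields a derivation with a non-nilpotent action. -/
theorem exists_toral_of_torus [Infinite k] (P : ConjData k A) (τ : Over (Spec (CommRingCat.of K))) [GrpObj τ]
    (hτ : Red.IsTorus τ) (v : τ ⟶ Red.bc (yK k K) (sp k A)) [IsMonHom v]
    (hnc : ∃ (x : Pt τ) (g : Pt (Red.bc (yK k K) (sp k A))), (x ≫ v) * g ≠ g * (x ≫ v)) :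
    ∃ d : WithConv (A →ₗ[k] k), IsDerOn P.S d.ofConv ∧ IsToral P.S d ∧ ¬ IsNilpotent (P.mat d.ofConv) := by
  classical
  obtain ⟨M, _, f, hfg, hfree, U, hUs, hU⟩ := exists_comorphism τ hτ v
  haveI := hfg
  have hmul : ∀ u w : WithConv (MonoidAlgebra K M →ₐ[K] K),
      toConv (((u * w).ofConv.restrictScalars k).comp f) =
        toConv ((u.ofConv.restrictScalars k).comp f) * toConv ((w.ofConv.restrictScalars k).comp f) := fun u w => by
    rw [← hU, ← hU, ← hU, ← map_mul, map_mul U, MonObj.mul_comp]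
  have hΔ : ∀ i j, Coalgebra.comul (R := K) (f (P.M i j)) = ∑ l, f (P.M i l) ⊗ₜ[K] f (P.M l j) := by
    intro i j
    rw [← sub_eq_zero]
    refine eq_zero_of_forall_pair hfree _ fun u w => ?_
    have h1 := DFunLike.congr_fun (congrArg WithConv.ofConv (hmul (toConv u) (toConv w))) (P.M i j)
    have h2 : ∀ (R : Type u) [CommRing R] [Algebra k R] (a b : A →ₐ[k] R),
        (toConv a * toConv b).ofConv (P.M i j) = ∑ l, a (P.M i l) * b (P.M l j) := by
      intro R _ _ a b
      show (toConv a * toConv b) (P.M i j) = _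
      rw [AlgHom.convMul_apply, P.comod.comul, map_sum]
      simp
    rw [h2, WithConv.ofConv_toConv, AlgHom.comp_apply] at h1
    rw [map_sub, map_sum, sub_eq_zero]
    refine Eq.trans ?_ (h1.trans ?_)
    · show _ = ((toConv u * toConv w).ofConv) (f (P.M i j))
      show _ = (toConv u * toConv w) (f (P.M i j))
      rw [AlgHom.convMul_apply]
    · simp
  have hε : ∀ i j, Coalgebra.counit (R := K) (f (P.M i j)) = if i = j then 1 else 0 := by
    intro i j
    have h1 := DFunLike.congr_fun (congrArg WithConv.ofConv (hU 1)) (P.M i j)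
    rw [map_one, MonObj.one_comp, map_one, WithConv.ofConv_toConv, AlgHom.comp_apply] at h1
    refine (show Coalgebra.counit (R := K) (f (P.M i j)) = _ from ?_).trans (h1.symm.trans ?_)
    · simp [AlgHom.convOne_def]
    · show (1 : WithConv (A →ₐ[k] K)) (P.M i j) = _
      rw [AlgHom.convOne_apply, P.comod.counit]
      split <;> simp
  have hne : P.mat f.toLinearMap ≠ 1 := by
    intro hm
    obtain ⟨x, g, hxg⟩ := hnc
    obtain ⟨u, rfl⟩ := hUs x
    refine hxg (FrobDesc.toPt_injective (k := k) (K := K) ?_)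
    rw [map_mul, map_mul]
    refine P.comm_of_trivial _ _ fun i j => ?_
    rw [hU, WithConv.ofConv_toConv, AlgHom.comp_apply]
    have h1 : f (P.M i j) = if i = j then 1 else 0 := by
      have := congrFun (congrFun hm i) j
      rw [Matrix.one_apply] at this
      exact this
    rw [h1]
    split <;> simp
  obtain ⟨d₁, hd₁, hn₁⟩ := exists_derivation_K P hfree f hΔ hε hne
  obtain ⟨e, he, hen⟩ := exists_derivation P d₁ hd₁ hn₁
  obtain ⟨p, hp⟩ := CharP.exists k
  rcases CharP.char_is_prime_or_zero k p with hpp | hp0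
  · haveI := Fact.mk hpp
    obtain ⟨d, R, hd, hdn, hR0, hR⟩ := exists_toral P p e he hen
    exact ⟨d, hd, Or.inr ⟨R, hR0, hR⟩, hdn⟩
  · subst hp0
    exact ⟨toConv e, he, Or.inl (CharP.charP_to_charZero k), hen⟩

/-- A central subgroup stays central on points over an extension. -/
theorem central_bc {T : Over (Spec (CommRingCat.of k))} (t : T ⟶ sp k A)
    (hc : ∀ (X : Over (Spec (CommRingCat.of k))) (x : X ⟶ T) (g : X ⟶ sp k A), (x ≫ t) * g = g * (x ≫ t))
    (x : Pt (Red.bc (yK k K) T)) (g : Pt (Red.bc (yK k K) (sp k A))) :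
    (x ≫ (Over.pullback (yK k K)).map t) * g = g * (x ≫ (Over.pullback (yK k K)).map t) := by
  refine FrobDesc.down_injective ?_
  rw [FrobDesc.down_mul, FrobDesc.down_mul, FrobDesc.down_map]
  exact hc _ _ _

/-- A torus killing an ideal lifts to the closed subgroup. -/
theorem exists_lift_quot (J : Ideal A) [J.IsHopfIdeal k] {τ : Over (Spec (CommRingCat.of K))} [IsReduced τ.left]
    [LocallyOfFiniteType τ.hom] (v : τ ⟶ Red.bc (yK k K) (sp k A))
    (h : ∀ x : Pt τ, ∀ a ∈ J, (toPt A (x ≫ v)).ofConv a = 0) :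
    ∃ w : τ ⟶ Red.bc (yK k K) (sp k (A ⧸ J)),
      w ≫ (Over.pullback (yK k K)).map (spMap (Ideal.Quotient.mkₐ k J)) = v := by
  let F := Over.pullback (yK k K)
  let q : sp k (A ⧸ J) ⟶ sp k A := spMap (Ideal.Quotient.mkₐ k J)
  haveI : IsClosedImmersion q.left := IsClosedImmersion.spec_of_surjective _ Ideal.Quotient.mk_surjective
  haveI : IsClosedImmersion (F.map q).left :=
    MorphismProperty.of_isPullback (P := @IsClosedImmersion) (GrpSchLib.HomSplitLocal.isPullback_map q (yK k K))
      inferInstance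
  refine Chev.exists_lift_range (F.map q) v (Chev.mem_of_pts v (F.map q).left.isClosedEmbedding.isClosed_range fun x => ?_)
  obtain ⟨z, hz⟩ := FrobDesc.toPt_surjective (k := k) (K := K)
    (toConv (Ideal.Quotient.liftₐ J (toPt A (x ≫ v)).ofConv (h x)))
  refine ⟨pimg z, ?_⟩
  rw [← Chev.pimg_comp]
  refine congrArg pimg (FrobDesc.toPt_injective (k := k) (K := K) ?_)
  rw [FrobDesc.toPt_map, hz]
  exact WithConv.ofConv_injective (AlgHom.ext fun a => rfl)

/-- A torus in a group lies in an open and closed subgroup. -/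
theorem exists_lift_clopen {N H τ : Over (Spec (CommRingCat.of K))} [GrpObj N] [GrpObj H] [GrpObj τ]
    [IsReduced τ.left] [ConnectedSpace τ.left] (i : N ⟶ H) [IsMonHom i] [IsClosedImmersion i.left]
    [IsOpenImmersion i.left] (w : τ ⟶ H) [IsMonHom w] : ∃ w' : τ ⟶ N, w' ≫ i = w := by
  have hcl : IsClopen (w.left ⁻¹' Set.range i.left) :=
    ⟨i.left.isClosedEmbedding.isClosed_range.preimage w.left.continuous,
      i.left.isOpenEmbedding.isOpen_range.preimage w.left.continuous⟩
  have hne : (w.left ⁻¹' Set.range i.left).Nonempty := ⟨pimg (1 : Pt τ), by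
    refine ⟨pimg (1 : Pt N), ?_⟩
    show pimg ((1 : Pt N) ≫ i) = pimg ((1 : Pt τ) ≫ w)
    rw [MonObj.one_comp, MonObj.one_comp]⟩
  refine Chev.exists_lift_range i w ?_
  rintro _ ⟨x, rfl⟩
  exact Set.mem_preimage.mp ((hcl.eq_univ hne).symm ▸ Set.mem_univ x)

end

variable {A : Type u} [CommRing A] [HopfAlgebra k A]

/-- The torus of a reductive centre is maximal when all tori are central. -/
theorem exists_of_central [IsDomain A] [Algebra.Smooth k A] [Algebra.FiniteType k A]
    (hc : ∀ (τ : Over (Spec (CommRingCat.of (GK k)))) [GrpObj τ] (v : τ ⟶ Red.bc (yK k (GK k)) (sp k A)) [IsMonHom v],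
      Red.IsTorus τ → ∀ (x : Pt τ) (g : Pt (Red.bc (yK k (GK k)) (sp k A))), (x ≫ v) * g = g * (x ≫ v)) :
    ∃ (T : Over (Spec (CommRingCat.of k))) (_ : GrpObj T) (i : T ⟶ sp k A), Red.IsMaximalTorus i := by
  haveI : IsAffine (sp k A).left := inferInstanceAs (IsAffine (Spec (CommRingCat.of A)))
  haveI : Smooth (sp k A).hom := smooth_sp A
  haveI : ConnectedSpace (sp k A).left := inferInstanceAs (ConnectedSpace (PrimeSpectrum A))
  haveI : IsAffineHom (sp k A).hom := isAffineHom_of_isAffine _
  obtain ⟨hAa, hAs, hAc⟩ := Borel.bc_props (yK k (GK k)) (sp k A)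
  haveI := hAa; haveI := hAs; haveI := hAc
  haveI : IsAffineHom (Red.bc (yK k (GK k)) (sp k A)).hom := isAffineHom_of_isAffine _
  obtain ⟨Z, iZ, z, hz, hzm, hZ, -, huniv⟩ := S8393.result k (sp k A)
  obtain ⟨T, iT, t, ht, -⟩ := S4148.result _ Z hZ
  obtain ⟨htm, htmo, hT, -⟩ := id ht
  haveI := hz; haveI := hzm; haveI := htm; haveI := htmo
  refine ⟨T, iT, t ≫ z, (isMaximalTorus_iff _ hT).mpr fun T' _ j _ _ f hT' hf => ?_⟩
  obtain ⟨hTa, -, hTs, -⟩ := Deform.TorusBasic.props hT'
  haveI := hTa; haveI := hTs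
  let F := Over.pullback (yK k (GK k))
  obtain ⟨w, hw⟩ := huniv _ (yK k (GK k)) T' j (Deform.isMultTypeFT_of_isTorus hT') fun X x g =>
    Borel.comm_of_pts j (fun g x => (hc T' j hT' x g).symm) x g
  haveI : IsMonHom w := Deform.isMonHom_of_comp w (F.map z) hw
  haveI : Mono w := mono_of_mono_fac hw
  refine (isMaximalTorus_iff t hT).mp ht T' w f hT' ?_
  rw [← cancel_mono (F.map z), Category.assoc, hw, hf, F.map_comp]

/-- **The induction step.** -/
theorem step [IsDomain A] [Algebra.Smooth k A] [Algebra.FiniteType k A]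
    (ih : ∀ (H : Over (Spec (CommRingCat.of k))) [GrpObj H] (h : H ⟶ sp k A) [IsMonHom h] [IsClosedImmersion h.left]
      [IsAffine H.left] [Smooth H.hom] [ConnectedSpace H.left], ¬ Surjective h.left →
        ∃ (T : Over (Spec (CommRingCat.of k))) (_ : GrpObj T) (i : T ⟶ H), Red.IsMaximalTorus i) :
    ∃ (T : Over (Spec (CommRingCat.of k))) (_ : GrpObj T) (i : T ⟶ sp k A), Red.IsMaximalTorus i := by
  classical
  haveI : IsAffine (sp k A).left := inferInstanceAs (IsAffine (Spec (CommRingCat.of A)))
  haveI : Smooth (sp k A).hom := smooth_sp A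
  haveI : ConnectedSpace (sp k A).left := inferInstanceAs (ConnectedSpace (PrimeSpectrum A))
  haveI : IsAffineHom (sp k A).hom := isAffineHom_of_isAffine _
  haveI : IsReduced (sp k A).left := GrpSchLib.isReduced_of_smooth_field (sp k A).hom
  by_cases hcent : ∀ (τ : Over (Spec (CommRingCat.of (GK k)))) [GrpObj τ]
      (v : τ ⟶ Red.bc (yK k (GK k)) (sp k A)) [IsMonHom v], Red.IsTorus τ →
        ∀ (x : Pt τ) (g : Pt (Red.bc (yK k (GK k)) (sp k A))), (x ≫ v) * g = g * (x ≫ v)
  · exact exists_of_central hcent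
  rcases finite_or_infinite k with hk | hk
  · obtain ⟨B, iB, b, T, iT, t, -, ht⟩ := S3922.result k (sp k A)
    exact ⟨T, iT, t ≫ b, ht⟩
  push Not at hcent
  obtain ⟨τ, iτ, v, hv, hτ, hnc⟩ := hcent
  obtain ⟨P⟩ := exists_conjData (k := k) (A := A)
  obtain ⟨d, hd, htor, hn⟩ := exists_toral_of_torus P τ hτ v hnc
  haveI : (imIdeal (opD d.ofConv)).IsHopfIdeal k := isHopfIdeal_imIdeal P.conjIn hd
  let J := imIdeal (opD d.ofConv)
  haveI : Smooth (sp k (A ⧸ J)).hom := smooth_fix P.conjIn hd htor
  haveI : IsAffine (sp k (A ⧸ J)).left := inferInstanceAs (IsAffine (Spec (CommRingCat.of (A ⧸ J))))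
  haveI : IsAffineHom (sp k (A ⧸ J)).hom := isAffineHom_of_isAffine _
  obtain ⟨N, iN, i₀, hi₀, hic, hio, hNs, hNq, hNc, -⟩ := Chev.exists_neutral (sp k (A ⧸ J))
  haveI := hi₀; haveI := hic; haveI := hio; haveI := hNs; haveI := hNq; haveI := hNc
  haveI : IsAffine N.left := isAffine_of_isAffineHom i₀.left
  let q : sp k (A ⧸ J) ⟶ sp k A := spMap (Ideal.Quotient.mkₐ k J)
  haveI : IsMonHom q := GrpSchLib.AffineHopf.isMonHom_spMap (Bialgebra.Quotient.mkBialgHom J : A →ₐc[k] A ⧸ J)
  haveI : IsClosedImmersion q.left := IsClosedImmersion.spec_of_surjective _ Ideal.Quotient.mk_surjective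
  haveI : IsClosedImmersion (i₀ ≫ q).left := inferInstanceAs (IsClosedImmersion (i₀.left ≫ q.left))
  have hproper : ¬ Surjective (i₀ ≫ q).left := by
    intro hs
    haveI : Surjective (i₀.left ≫ q.left) := hs
    haveI : Surjective q.left := Surjective.of_comp i₀.left q.left
    haveI := isIso_of_isClosedImmersion_of_surjective q.left
    have hb : Function.Bijective (Ideal.Quotient.mkₐ k J) := isIso_SpecMap_iff.mp
      (show IsIso (Spec.map (CommRingCat.ofHom (Ideal.Quotient.mkₐ k J).toRingHom)) from (inferInstance : IsIso q.left))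
    have h0 : ∀ a, opD d.ofConv a = 0 := fun a => hb.1 (by
      rw [map_zero]
      exact Ideal.Quotient.eq_zero_iff_mem.mpr (Ideal.subset_span ⟨a, rfl⟩))
    exact hn (P.opD_eq_zero h0 ▸ IsNilpotent.zero)
  obtain ⟨TH, iTH, iH, hTH⟩ := ih N (i₀ ≫ q) hproper
  obtain ⟨hHm, hHmo, hHT, -⟩ := id hTH
  haveI := hHm; haveI := hHmo
  let t : TH ⟶ sp k A := iH ≫ i₀ ≫ q
  obtain ⟨hTHa, hTHl, hTHs, -⟩ := Deform.TorusBasic.props hHT
  haveI := hTHa; haveI := hTHl; haveI := hTHs
  haveI : IsAffineHom TH.hom := isAffineHom_of_isAffine _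
  haveI : Mono i₀ := (Over.forget _).mono_of_mono_map (inferInstanceAs (Mono i₀.left))
  haveI : Mono q := (Over.forget _).mono_of_mono_map (inferInstanceAs (Mono q.left))
  haveI : Mono t := inferInstanceAs (Mono (iH ≫ i₀ ≫ q))
  haveI : IsMonHom t := inferInstanceAs (IsMonHom (iH ≫ i₀ ≫ q))
  let F := Over.pullback (yK k (GK k))
  by_cases hct : ∀ (X : Over (Spec (CommRingCat.of k))) (x : X ⟶ TH) (g : X ⟶ sp k A), (x ≫ t) * g = g * (x ≫ t)
  · refine (key (K := GK k) P d hd htor hn fun τ' _ v' _ hτ' hkill => ?_).elim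
    obtain ⟨hτa, hτl, hτs, hτc⟩ := Deform.TorusBasic.props hτ'
    haveI := hτa; haveI := hτl; haveI := hτs; haveI := hτc
    haveI : IsAffineHom τ'.hom := isAffineHom_of_isAffine _
    haveI : IsReduced τ'.left := GrpSchLib.isReduced_of_smooth_field τ'.hom
    obtain ⟨w, hw⟩ := exists_lift_quot J v' hkill
    haveI : IsMonHom w := Deform.isMonHom_of_comp w (F.map q) hw
    haveI : IsClosedImmersion (F.map i₀).left :=
      MorphismProperty.of_isPullback (P := @IsClosedImmersion)
        (GrpSchLib.HomSplitLocal.isPullback_map i₀ (yK k (GK k))) inferInstance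
    haveI : IsOpenImmersion (F.map i₀).left :=
      MorphismProperty.of_isPullback (P := @IsOpenImmersion)
        (GrpSchLib.HomSplitLocal.isPullback_map i₀ (yK k (GK k))) inferInstance
    obtain ⟨w', hw'⟩ := exists_lift_clopen (F.map i₀) w
    haveI : IsMonHom w' := Deform.isMonHom_of_comp w' (F.map i₀) hw'
    have hv' : w' ≫ F.map (i₀ ≫ q) = v' := by rw [F.map_comp, reassoc_of% hw', hw]
    obtain ⟨hNa', hNs', hNc'⟩ := Borel.bc_props (yK k (GK k)) N
    haveI := hNa'; haveI := hNs'; haveI := hNc'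
    haveI : IsAffineHom (Red.bc (yK k (GK k)) N).hom := isAffineHom_of_isAffine _
    have hmax : AGF.IsMaxTorus (F.map iH) :=
      ⟨inferInstance, inferInstance, Deform.isTorus_bc _ hHT, (isMaximalTorus_iff iH hHT).mp hTH⟩
    obtain ⟨hAa, hAs, hAc⟩ := Borel.bc_props (yK k (GK k)) (sp k A)
    haveI := hAa; haveI := hAs; haveI := hAc
    haveI : IsAffineHom (Red.bc (yK k (GK k)) (sp k A)).hom := isAffineHom_of_isAffine _
    haveI : Smooth (Red.bc (yK k (GK k)) TH).hom :=
      inferInstanceAs (Smooth (CategoryTheory.Limits.pullback.snd TH.hom (yK k (GK k))))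
    obtain ⟨g, hg⟩ := Luna.le_maxTorus_of_comm hmax hτ' w' fun X a b => by
      rw [← cancel_mono (F.map (i₀ ≫ q)), MonObj.mul_comp, MonObj.mul_comp, Category.assoc a, ← F.map_comp]
      exact Borel.comm_of_pts (F.map t) (fun g x => (central_bc t hct x g).symm) a ((b ≫ w') ≫ F.map (i₀ ≫ q))
    intro x y
    rw [← hv', ← hg, Category.assoc, ← F.map_comp, ← Category.assoc]
    exact central_bc t hct _ _
  haveI : LocallyOfFiniteType (sp k A).hom := inferInstance
  haveI : IsClosedImmersion t.left := Borel.isClosedImmersion_of_mono t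
  obtain ⟨⟨C, iC, c, hc, hcc, hCs⟩, -⟩ := S3006.result _ (sp k A) TH t inferInstance hHT
  haveI := hcc; haveI := hCs
  haveI := S3908.result k (sp k A) TH t hHT C c hc
  obtain ⟨hcm, hcmo, hcu⟩ := id hc
  haveI := hcm; haveI := hcmo
  haveI : IsAffine C.left := isAffine_of_isAffineHom c.left
  haveI : IsAffineHom C.hom := isAffineHom_of_isAffine _
  obtain ⟨T, iT, iC', hTC⟩ := ih C c fun hs => hct fun X x g => by
    haveI := hs
    haveI := isIso_of_isClosedImmersion_of_surjective c.left
    haveI : IsIso c := by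
      haveI : IsIso ((Over.forget _).map c) := ‹IsIso c.left›
      exact isIso_of_reflects_iso c (Over.forget _)
    have h1 := (hcu X g).mp ⟨g ≫ inv c, by simp⟩ X (𝟙 X) x
    rw [Category.id_comp] at h1
    exact h1.symm
  obtain ⟨hCm, hCmo, hTt, -⟩ := id hTC
  haveI := hCm; haveI := hCmo
  refine ⟨T, iT, iC' ≫ c, (isMaximalTorus_iff _ hTt).mpr fun T' _ j _ _ f hT' hf => ?_⟩
  have hcomm := GrpSchLib.RankOne.torus_mul_comm hHT
  obtain ⟨u', hu'⟩ := (hcu TH t).mpr fun X x h => by
    rw [← MonObj.mul_comp, ← MonObj.mul_comp, hcomm]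
  haveI : IsMonHom u' := Deform.isMonHom_of_comp u' c hu'
  obtain ⟨w, hw⟩ := S8398.result _ C (fun s => by
      have : C.hom.base ⁻¹' {s} = Set.univ :=
        Set.eq_univ_of_forall fun x => Subsingleton.elim (α := PrimeSpectrum k) _ _
      rw [this]
      exact isConnected_univ)
    T iC' hTC TH (Deform.isMultTypeFT_of_isTorus hHT) u' fun X x g => by
      rw [← cancel_mono c, MonObj.mul_comp, MonObj.mul_comp, Category.assoc, hu']
      have h1 := (hcu X (g ≫ c)).mp ⟨g, rfl⟩ X (𝟙 X) x
      rw [Category.id_comp] at h1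
      exact h1.symm
  have hwt : w ≫ iC' ≫ c = t := by rw [reassoc_of% hw, hu']
  obtain ⟨hCK, hCKm, hCKu⟩ := Borel.isCentralizerOf_bc (yK k (GK k)) hc
  haveI := hCKm
  obtain ⟨j', hj'⟩ := (hCKu T' j).mpr fun X x h => by
    rw [show h ≫ F.map t = (h ≫ F.map w ≫ f) ≫ j by
      simp only [Category.assoc]; rw [hf, ← F.map_comp, hwt], ← MonObj.mul_comp, ← MonObj.mul_comp,
      GrpSchLib.RankOne.torus_mul_comm hT']
  haveI : IsMonHom j' := Deform.isMonHom_of_comp j' (F.map c) hj'
  haveI : Mono j' := mono_of_mono_fac hj'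
  refine (isMaximalTorus_iff iC' hTt).mp hTC T' j' f hT' ?_
  rw [← cancel_mono (F.map c), Category.assoc, hj', hf, F.map_comp]

/-- **Every smooth connected affine group over a field has a maximal torus.** -/
theorem exists_maxTorus_affine (G : Over (Spec (CommRingCat.of k))) [GrpObj G] [IsAffine G.left] [Smooth G.hom]
    [ConnectedSpace G.left] :
    ∃ (T : Over (Spec (CommRingCat.of k))) (_ : GrpObj T) (i : T ⟶ G), Red.IsMaximalTorus i := by
  obtain ⟨A₀, _, _, _, _, e₀, he₀⟩ := GrpSchLib.Lang.exists_domain_hopf G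
  haveI := he₀
  haveI : IsNoetherianRing A₀ := Algebra.FiniteType.isNoetherianRing k A₀
  have smooth_of : ∀ (B : Type u) [CommRing B] [Algebra k B] (H : Over (Spec (CommRingCat.of k))) [Smooth H.hom]
      (e : sp k B ⟶ H) [IsIso e.left], Algebra.Smooth k B := fun B _ _ H _ e _ => by
    haveI : Smooth (sp k B).hom := by
      haveI : Smooth (e.left ≫ H.hom) := MorphismProperty.comp_mem _ _ _ inferInstance ‹Smooth H.hom›
      rwa [Over.w e] at this
    have h : (algebraMap k B).Smooth :=
      (HasRingHomProperty.Spec_iff (P := @Smooth) (φ := CommRingCat.ofHom (algebraMap k B))).mp ‹_›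
    exact RingHom.smooth_algebraMap.mp h
  haveI : IsIso e₀.hom.left := ((Over.forget _).mapIso e₀).isIso_hom
  haveI := smooth_of A₀ G e₀.hom
  have main : ∀ (I : Ideal A₀) (B : Type u) [CommRing B] [IsDomain B] [HopfAlgebra k B] [Algebra.FiniteType k B]
      [Algebra.Smooth k B] (f : A₀ →ₐc[k] B), Function.Surjective f → RingHom.ker (f : A₀ →+* B) = I →
      ∃ (T : Over (Spec (CommRingCat.of k))) (_ : GrpObj T) (i : T ⟶ sp k B), Red.IsMaximalTorus i := by
    intro I
    induction I using WellFoundedGT.induction with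
    | ind I IH =>
      intro B _ _ _ _ _ f hf hI
      refine step fun H _ h _ _ _ _ _ hns => ?_
      obtain ⟨B', _, _, _, _, e, he⟩ := GrpSchLib.Lang.exists_domain_hopf H
      haveI := he
      haveI : IsIso e.hom.left := ((Over.forget _).mapIso e).isIso_hom
      haveI := smooth_of B' H e.hom
      obtain ⟨g, hg⟩ := GrpSchLib.AffineHopf.exists_bialgHom (e.hom ≫ h)
      haveI : IsClosedImmersion (spMap (g : B →ₐ[k] B')).left := by
        rw [← hg]; exact inferInstanceAs (IsClosedImmersion (e.hom.left ≫ h.left))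
      have hgs : Function.Surjective g :=
        GrpSchLib.AffineHopf.surjective_of_isClosedImmersion (g : B →ₐ[k] B') inferInstance
      have hlt : I < RingHom.ker ((g.comp f : A₀ →ₐc[k] B') : A₀ →+* B') := by
        subst hI
        refine lt_of_le_of_ne (fun a ha => ?_) fun heq => hns ?_
        · show g (f a) = 0
          rw [show f a = 0 from ha, map_zero]
        · have hinj : Function.Injective g := (injective_iff_map_eq_zero g).mpr fun b hb => by
            obtain ⟨a, rfl⟩ := hf b
            have ha : a ∈ RingHom.ker (f : A₀ →+* B) := heq ▸ (show g (f a) = 0 from hb)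
            exact ha
          haveI : Surjective (spMap (g : B →ₐ[k] B')).left := ⟨GrpSchLib.HopfFlat.surjective_comap g hinj⟩
          rw [← hg] at this
          haveI : Surjective (e.hom.left ≫ h.left) := this
          exact Surjective.of_comp e.hom.left h.left
      obtain ⟨T, iT, i, hi⟩ := IH _ hlt B' (g.comp f) (hgs.comp hf) rfl
      exact ⟨T, iT, i ≫ e.hom, isMaximalTorus_comp_iso hi e⟩
  obtain ⟨T, iT, i, hi⟩ := main _ A₀ (BialgHom.id k A₀) (fun a => ⟨a, rfl⟩) rfl
  exact ⟨T, iT, i ≫ e₀.hom, isMaximalTorus_comp_iso hi e₀⟩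

end Groth.Agent.Deform.TorusExist
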