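import Mathlib.RingTheory.Smooth.Basic
import Mathlib.RingTheory.Derivation.Basic
import Mathlib.Algebra.Polynomial.AlgebraMap

/-!
# The zeros of a toral derivation form a formally smooth subscheme

If a derivation `D` of a formally smooth algebra is annihilated by a polynomial `X * R` with `R.eval 0 = 1`, then
`R(D)` projects onto the constants and the quotient by the ideal generated by the image of `D` is formally smooth.
-/

set_option autoImplicit false

universe u

open Polynomial

namespace Groth.Agent.Deform.TorusExist

variable {k : Type u} [CommRing k] {B : Type u} [CommRing B] [Algebra k B] (D : B →ₗ[k] B) (R : k[X])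

theorem aeval_mem_of_stable {W : Submodule k B} (hW : ∀ w ∈ W, D w ∈ W) (P : k[X]) :
    ∀ w ∈ W, aeval D P w ∈ W := by
  intro w hw
  induction P using Polynomial.induction_on' with
  | add p q hp hq => rw [map_add, LinearMap.add_apply]; exact W.add_mem hp hq
  | monomial n a =>
    rw [aeval_monomial, Module.End.mul_apply, Module.algebraMap_end_apply]
    refine W.smul_mem _ ?_
    induction n with
    | zero => simpa using hw
    | succ n ih => rw [pow_succ', Module.End.mul_apply]; exact hW _ ih

/-- The ideal generated by the image of a linear map. -/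
def imIdeal : Ideal B := Ideal.span (Set.range D)

theorem formallySmooth_quot [Algebra.FormallySmooth k B] (hD : ∀ a b, D (a * b) = a * D b + b * D a)
    (hR : R.coeff 0 = 1) (hP : aeval D (X * R) = 0) : Algebra.FormallySmooth k (B ⧸ imIdeal D) := by
  let pr : B →ₗ[k] B := aeval D R
  have hDpr : ∀ a, D (pr a) = 0 := fun a => by
    have := LinearMap.congr_fun hP a
    rwa [map_mul, aeval_X, Module.End.mul_apply] at this
  have hprD : ∀ a, pr (D a) = 0 := fun a => by
    have := LinearMap.congr_fun hP a
    rwa [mul_comm, map_mul, aeval_X, Module.End.mul_apply] at this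
  have hsub : ∀ a, ∃ b, a - pr a = D b := fun a => by
    refine ⟨-(aeval D R.divX a), ?_⟩
    have h := LinearMap.congr_fun (congrArg (aeval D) (X_mul_divX_add R)) a
    rw [map_add, map_mul, aeval_X, hR, map_one, map_one, LinearMap.add_apply, Module.End.mul_apply,
      Module.End.one_apply] at h
    rw [map_neg]
    show a - pr a = _
    rw [show pr a = _ from h.symm]
    abel
  have hconst : ∀ a, D a = 0 → pr a = a := fun a ha => by
    have h4 := LinearMap.congr_fun (congrArg (aeval D) (divX_mul_X_add R)) a
    rw [map_add, map_mul, aeval_X, hR, map_one, map_one, LinearMap.add_apply, Module.End.mul_apply,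
      Module.End.one_apply, ha, map_zero, zero_add] at h4
    exact h4.symm
  let mk := Ideal.Quotient.mkₐ k (imIdeal D)
  have hmk : ∀ a, mk (pr a) = mk a := fun a => by
    obtain ⟨b, hb⟩ := hsub a
    refine ((Ideal.Quotient.eq).mpr ?_).symm
    rw [hb]; exact Ideal.subset_span ⟨b, rfl⟩
  refine Algebra.FormallySmooth.of_comp_surjective fun C _ _ N hN g => ?_
  obtain ⟨h, hh⟩ := Algebra.FormallySmooth.comp_surjective k B N hN (g.comp mk)
  have hN' : ∀ a, h (D a) ∈ N := fun a => by
    rw [← Ideal.Quotient.eq_zero_iff_mem]
    show (Ideal.Quotient.mkₐ k N).comp h (D a) = 0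
    rw [hh, AlgHom.comp_apply,
      show mk (D a) = 0 from Ideal.Quotient.eq_zero_iff_mem.mpr (Ideal.subset_span ⟨a, rfl⟩), map_zero]
  -- the square of the image is killed after lifting
  let W : Submodule k B := Submodule.span k {z | ∃ x y, z = D x * D y}
  have hWst : ∀ w ∈ W, D w ∈ W := fun w hw => by
    induction hw using Submodule.span_induction with
    | mem z hz =>
      obtain ⟨x, y, rfl⟩ := hz
      rw [hD]
      exact W.add_mem (Submodule.subset_span ⟨x, D y, rfl⟩) (Submodule.subset_span ⟨y, D x, rfl⟩)
    | zero => rw [map_zero]; exact W.zero_mem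
    | add p q _ _ hp hq => rw [map_add]; exact W.add_mem hp hq
    | smul c p _ hp => rw [map_smul]; exact W.smul_mem c hp
  have hW0 : ∀ w ∈ W, h w = 0 := fun w hw => by
    induction hw using Submodule.span_induction with
    | mem z hz =>
      obtain ⟨x, y, rfl⟩ := hz
      have := Ideal.mul_mem_mul (hN' x) (hN' y)
      rw [← pow_two, hN, Ideal.mem_bot] at this
      rwa [map_mul]
    | zero => exact map_zero h
    | add p q _ _ hp hq => rw [map_add, hp, hq, add_zero]
    | smul c p _ hp => rw [map_smul, hp, smul_zero]
  have hcross : ∀ x y, h (pr (D x * D y)) = 0 := fun x y =>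
    hW0 _ (aeval_mem_of_stable D hWst R _ (Submodule.subset_span ⟨x, y, rfl⟩))
  have hleft : ∀ a y, D a = 0 → pr (a * D y) = 0 := fun a y ha => by
    rw [show a * D y = D (a * y) by rw [hD, ha, mul_zero, add_zero]]
    exact hprD _
  have hkill : ∀ x b, h (pr (D x * b)) = 0 := fun x b => by
    obtain ⟨c, hc⟩ := hsub b
    rw [show D x * b = pr b * D x + D x * D c by rw [← hc]; ring, map_add, hleft _ _ (hDpr b), zero_add]
    exact hcross x c
  let h' : B →ₐ[k] C := AlgHom.ofLinearMap (h.toLinearMap ∘ₗ pr)
    (by
      show h (pr 1) = 1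
      rw [hconst 1 (by simpa using hD 1 1), map_one])
    (fun a b => by
      show h (pr (a * b)) = h (pr a) * h (pr b)
      obtain ⟨c, hc⟩ := hsub a
      obtain ⟨e, he⟩ := hsub b
      have e1 : a * b = pr a * pr b + (pr a * D e + D c * b) := by rw [← hc, ← he]; ring
      have e2 : pr (pr a * pr b) = pr a * pr b := hconst _ (by rw [hD, hDpr, hDpr, mul_zero, mul_zero, add_zero])
      rw [e1, map_add, map_add, map_add, map_add, e2, hleft _ _ (hDpr a), map_zero, zero_add, hkill, add_zero, map_mul])
  have hI : ∀ a ∈ imIdeal D, h' a = 0 := fun a ha => by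
    induction ha using Submodule.span_induction with
    | mem z hz =>
      obtain ⟨x, rfl⟩ := hz
      show h (pr (D x)) = 0
      rw [hprD, map_zero]
    | zero => exact map_zero h'
    | add p q _ _ hp hq => rw [map_add, hp, hq, add_zero]
    | smul c p _ hp => rw [smul_eq_mul, map_mul, hp, mul_zero]
  refine ⟨Ideal.Quotient.liftₐ (imIdeal D) h' hI, ?_⟩
  refine AlgHom.ext fun z => ?_
  obtain ⟨a, rfl⟩ := Ideal.Quotient.mk_surjective z
  show (Ideal.Quotient.mkₐ k N).comp h (pr a) = g (mk a)
  rw [hh, AlgHom.comp_apply, hmk]

end Groth.Agent.Deform.TorusExist
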