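import Groth.Agent.ComodLib.Basic
import Groth.Agent.MultTypeLib.Averaging
import Groth.Prelude.Def_SGA3
import Groth.Agent.Deform.TorusExist.Lift
import Mathlib.RingTheory.HopfAlgebra.Quotient

/-!
# The conjugation comodule and the derivations it gives
-/

set_option autoImplicit false
set_option linter.style.haveILetI false
set_option linter.unusedSectionVars false
set_option maxHeartbeats 1000000

universe u

open TensorProduct WithConv

noncomputable section

namespace Groth.Agent.Deform.TorusExist

attribute [local instance 2000] MultTypeLib.algConvGroup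

variable {k : Type u} [Field k] {A : Type u} [CommRing A] [HopfAlgebra k A]

/-- Postcomposition on convolution groups. -/
def post {R S : Type u} [CommRing R] [Algebra k R] [CommRing S] [Algebra k S] (φ : R →ₐ[k] S) :
    WithConv (A →ₐ[k] R) →* WithConv (A →ₐ[k] S) :=
  MonoidHom.mk' (fun x => toConv (φ.comp x.ofConv)) fun x y =>
    WithConv.ofConv_injective (AlgHom.comp_convMul_distrib φ x y)

/-- Precomposition on convolution groups. -/
def pre {R B : Type u} [CommRing R] [Algebra k R] [CommRing B] [HopfAlgebra k B] (ι : B →ₐc[k] A) :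
    WithConv (A →ₐ[k] R) →* WithConv (B →ₐ[k] R) :=
  MonoidHom.mk' (fun x => toConv (x.ofConv.comp (ι : B →ₐ[k] A))) fun x y =>
    WithConv.ofConv_injective (AlgHom.convMul_comp_bialgHom_distrib x y ι)

variable (k A) in
/-- The first projection of `A ⊗ A` as a point. -/
abbrev pL : WithConv (A →ₐ[k] A ⊗[k] A) := toConv Algebra.TensorProduct.includeLeft

variable (k A) in
/-- The second projection of `A ⊗ A` as a point. -/
abbrev pR : WithConv (A →ₐ[k] A ⊗[k] A) := toConv Algebra.TensorProduct.includeRight

variable (k A) in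
/-- Conjugation `(x, g) ↦ g⁻¹ x g` on coordinate rings. -/
def conjHom : A →ₐ[k] A ⊗[k] A := ((pR k A)⁻¹ * pL k A * pR k A).ofConv

theorem map_conjHom {S : Type u} [CommRing S] [Algebra k S] (φ : A ⊗[k] A →ₐ[k] S) :
    toConv (φ.comp (conjHom k A)) =
      (toConv (φ.comp Algebra.TensorProduct.includeRight))⁻¹ * toConv (φ.comp Algebra.TensorProduct.includeLeft) *
        toConv (φ.comp Algebra.TensorProduct.includeRight) := by
  show post φ ((pR k A)⁻¹ * pL k A * pR k A) = _
  rw [map_mul, map_mul, map_inv]
  rfl

theorem comul_eq_mul : toConv (Bialgebra.comulAlgHom k A) = pL k A * pR k A := by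
  refine WithConv.ofConv_injective (AlgHom.ext fun a => ?_)
  rw [AlgHom.convMul_def]
  simp only [WithConv.ofConv_toConv, AlgHom.comp_apply]
  induction (Bialgebra.comulAlgHom k A a) using TensorProduct.induction_on with
  | zero => simp
  | tmul x y => simp
  | add p q hp hq => simp only [map_add, ← hp, ← hq]

theorem lTensor_counit_conjHom (a : A) :
    TensorProduct.rid k A (LinearMap.lTensor A (Coalgebra.counit (R := k)) (conjHom k A a)) = a := by
  let φ : A ⊗[k] A →ₐ[k] A := (Algebra.TensorProduct.rid k k A).toAlgHom.comp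
    (Algebra.TensorProduct.map (AlgHom.id k A) (Bialgebra.counitAlgHom k A))
  have h : ∀ z, TensorProduct.rid k A (LinearMap.lTensor A (Coalgebra.counit (R := k)) z) = φ z := fun z => by
    induction z using TensorProduct.induction_on with
    | zero => simp
    | tmul x y => simp [φ]
    | add p q hp hq => simp only [map_add, hp, hq]
  rw [h]
  have h1 : toConv (φ.comp (conjHom k A)) = toConv (AlgHom.id k A) := by
    rw [map_conjHom, show toConv (φ.comp Algebra.TensorProduct.includeRight) = 1 from
        WithConv.ofConv_injective (AlgHom.ext fun x => by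
          show φ (1 ⊗ₜ x) = algebraMap k A (Coalgebra.counit x)
          simp [φ, Algebra.algebraMap_eq_smul_one]),
      show toConv (φ.comp Algebra.TensorProduct.includeLeft) = toConv (AlgHom.id k A) from
        WithConv.ofConv_injective (AlgHom.ext fun x => by simp [φ]), inv_one, one_mul, mul_one]
  exact DFunLike.congr_fun (congrArg WithConv.ofConv h1) a

theorem counit_rTensor_conjHom (a : A) :
    TensorProduct.lid k A (LinearMap.rTensor A (Coalgebra.counit (R := k)) (conjHom k A a)) =
      algebraMap k A (Coalgebra.counit (R := k) a) := by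
  let φ : A ⊗[k] A →ₐ[k] A := (Algebra.TensorProduct.lid k A).toAlgHom.comp
    (Algebra.TensorProduct.map (Bialgebra.counitAlgHom k A) (AlgHom.id k A))
  have h : ∀ z, TensorProduct.lid k A (LinearMap.rTensor A (Coalgebra.counit (R := k)) z) = φ z := fun z => by
    induction z using TensorProduct.induction_on with
    | zero => simp
    | tmul x y => simp [φ]
    | add p q hp hq => simp only [map_add, hp, hq]
  rw [h]
  have h1 : toConv (φ.comp (conjHom k A)) = 1 := by
    rw [map_conjHom, show toConv (φ.comp Algebra.TensorProduct.includeLeft) = 1 from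
        WithConv.ofConv_injective (AlgHom.ext fun x => by
          show φ (x ⊗ₜ 1) = algebraMap k A (Coalgebra.counit x)
          simp [φ, Algebra.algebraMap_eq_smul_one]), mul_one, inv_mul_cancel]
  exact DFunLike.congr_fun (congrArg WithConv.ofConv h1) a

theorem conjHom_antipode (a : A) :
    conjHom k A (HopfAlgebraStruct.antipode (R := k) a) =
      Algebra.TensorProduct.map (HopfAlgebra.antipodeAlgHom k A) (AlgHom.id k A) (conjHom k A a) := by
  let φ := Algebra.TensorProduct.map (HopfAlgebra.antipodeAlgHom k A) (AlgHom.id k A)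
  have h1 : ((pR k A)⁻¹ * pL k A * pR k A)⁻¹ = toConv (φ.comp (conjHom k A)) := by
    rw [map_conjHom, show toConv (φ.comp Algebra.TensorProduct.includeRight) = pR k A from
        WithConv.ofConv_injective (AlgHom.ext fun x => by simp [φ]),
      show toConv (φ.comp Algebra.TensorProduct.includeLeft) = (pL k A)⁻¹ from
        WithConv.ofConv_injective (AlgHom.ext fun x => by
          show φ (x ⊗ₜ 1) = (HopfAlgebraStruct.antipode (R := k) x) ⊗ₜ 1
          simp [φ, HopfAlgebra.antipodeAlgHom])]
    group
  exact DFunLike.congr_fun (congrArg WithConv.ofConv h1) a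

theorem conjHom_natural {B : Type u} [CommRing B] [HopfAlgebra k B] (ι : B →ₐc[k] A) :
    (Algebra.TensorProduct.map (ι : B →ₐ[k] A) (ι : B →ₐ[k] A)).comp (conjHom k B) =
      (conjHom k A).comp (ι : B →ₐ[k] A) := by
  apply WithConv.toConv_injective
  refine (map_conjHom _).trans ?_
  show _ = pre ι ((pR k A)⁻¹ * pL k A * pR k A)
  rw [map_mul, map_mul, map_inv,
    show toConv ((Algebra.TensorProduct.map (ι : B →ₐ[k] A) (ι : B →ₐ[k] A)).comp Algebra.TensorProduct.includeRight) =
      pre ι (pR k A) from WithConv.ofConv_injective (AlgHom.ext fun x => by simp [pre]),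
    show toConv ((Algebra.TensorProduct.map (ι : B →ₐ[k] A) (ι : B →ₐ[k] A)).comp Algebra.TensorProduct.includeLeft) =
      pre ι (pL k A) from WithConv.ofConv_injective (AlgHom.ext fun x => by simp [pre])]

theorem conjHom_coassoc (a : A) :
    TensorProduct.assoc k A A A (LinearMap.rTensor A (conjHom k A).toLinearMap (conjHom k A a)) =
      LinearMap.lTensor A (Coalgebra.comul (R := k)) (conjHom k A a) := by
  let φ : A ⊗[k] A →ₐ[k] A ⊗[k] (A ⊗[k] A) := (Algebra.TensorProduct.assoc k k k A A A).toAlgHom.comp
    (Algebra.TensorProduct.map (conjHom k A) (AlgHom.id k A))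
  let ψ : A ⊗[k] A →ₐ[k] A ⊗[k] (A ⊗[k] A) :=
    Algebra.TensorProduct.map (AlgHom.id k A) (Bialgebra.comulAlgHom k A)
  have hφ : ∀ z, TensorProduct.assoc k A A A (LinearMap.rTensor A (conjHom k A).toLinearMap z) = φ z := fun z => by
    induction z using TensorProduct.induction_on with
    | zero => simp
    | tmul x y =>
      show TensorProduct.assoc k A A A (conjHom k A x ⊗ₜ y) = Algebra.TensorProduct.assoc k k k A A A (conjHom k A x ⊗ₜ y)
      rfl
    | add p q hp hq => simp only [map_add, hp, hq]
  have hψ : ∀ z, LinearMap.lTensor A (Coalgebra.comul (R := k)) z = ψ z := fun z => by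
    induction z using TensorProduct.induction_on with
    | zero => simp
    | tmul x y => simp [ψ]
    | add p q hp hq => simp only [map_add, hp, hq]
  rw [hφ, hψ]
  let X : WithConv (A →ₐ[k] A ⊗[k] (A ⊗[k] A)) := toConv Algebra.TensorProduct.includeLeft
  let Y : WithConv (A →ₐ[k] A ⊗[k] (A ⊗[k] A)) :=
    toConv ((Algebra.TensorProduct.includeRight : A ⊗[k] A →ₐ[k] A ⊗[k] (A ⊗[k] A)).comp Algebra.TensorProduct.includeLeft)
  let Z : WithConv (A →ₐ[k] A ⊗[k] (A ⊗[k] A)) :=
    toConv ((Algebra.TensorProduct.includeRight : A ⊗[k] A →ₐ[k] A ⊗[k] (A ⊗[k] A)).comp Algebra.TensorProduct.includeRight)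
  have hA : toConv (φ.comp Algebra.TensorProduct.includeLeft) = Y⁻¹ * X * Y := by
    let α : A ⊗[k] A →ₐ[k] A ⊗[k] (A ⊗[k] A) :=
      Algebra.TensorProduct.map (AlgHom.id k A) Algebra.TensorProduct.includeLeft
    rw [show φ.comp Algebra.TensorProduct.includeLeft = α.comp (conjHom k A) from AlgHom.ext fun x => by
      show φ (x ⊗ₜ 1) = α (conjHom k A x)
      simp only [φ, AlgHom.comp_apply, AlgEquiv.coe_toAlgHom, Algebra.TensorProduct.map_tmul, map_one]
      induction conjHom k A x using TensorProduct.induction_on with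
      | zero => simp
      | tmul p q => simp [α]
      | add p q hp hq => rw [add_tmul, map_add, map_add, hp, hq], map_conjHom,
      show toConv (α.comp Algebra.TensorProduct.includeRight) = Y from
        WithConv.ofConv_injective (AlgHom.ext fun x => by simp [α, Y]),
      show toConv (α.comp Algebra.TensorProduct.includeLeft) = X from
        WithConv.ofConv_injective (AlgHom.ext fun x => by simp [α, X, Algebra.TensorProduct.one_def])]
  have hB : toConv (φ.comp Algebra.TensorProduct.includeRight) = Z :=
    WithConv.ofConv_injective (AlgHom.ext fun x => by simp [φ, Z, Algebra.TensorProduct.one_def])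
  have hC : toConv (ψ.comp Algebra.TensorProduct.includeLeft) = X :=
    WithConv.ofConv_injective (AlgHom.ext fun x => by simp [ψ, X, Algebra.TensorProduct.one_def])
  have hD : toConv (ψ.comp Algebra.TensorProduct.includeRight) = Y * Z := by
    rw [show ψ.comp Algebra.TensorProduct.includeRight =
      (Algebra.TensorProduct.includeRight : A ⊗[k] A →ₐ[k] A ⊗[k] (A ⊗[k] A)).comp (Bialgebra.comulAlgHom k A) from
        AlgHom.ext fun x => by simp [ψ]]
    show post _ (toConv (Bialgebra.comulAlgHom k A)) = _
    rw [comul_eq_mul, map_mul]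
    rfl
  have h : toConv (φ.comp (conjHom k A)) = toConv (ψ.comp (conjHom k A)) := by
    rw [map_conjHom, map_conjHom, hA, hB, hC, hD]
    letI G₀ : Group (WithConv (A →ₐ[k] A ⊗[k] (A ⊗[k] A))) := MultTypeLib.algConvGroup
    show (Z⁻¹ * (Y⁻¹ * X * Y) * Z : WithConv (A →ₐ[k] A ⊗[k] (A ⊗[k] A))) = (Y * Z)⁻¹ * X * (Y * Z)
    rw [@mul_inv_rev _ G₀.toDivisionMonoid Y Z]
    group
  exact DFunLike.congr_fun (congrArg WithConv.ofConv h) a

variable (k A) in
/-- The functions on a group under conjugation. -/
@[reducible] def conjComod : HopfRep.Comod k A A where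
  coact := (conjHom k A).toLinearMap
  coassoc := LinearMap.ext fun a => conjHom_coassoc a
  counit_comp := LinearMap.ext fun a => by
    apply (TensorProduct.rid k A).injective
    simpa using lTensor_counit_conjHom a

/-- The operator given by a linear form on the conjugation comodule. -/
def opD (φ : A →ₗ[k] k) : A →ₗ[k] A := letI := conjComod k A; ComodLib.actF φ

theorem opD_apply (φ : A →ₗ[k] k) (a : A) :
    opD φ a = TensorProduct.rid k A (LinearMap.lTensor A φ (conjHom k A a)) := rfl

/-- The operators form a representation of the convolution algebra. -/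
def opHom : WithConv (A →ₗ[k] k) →ₐ[k] Module.End k A :=
  letI := conjComod k A
  ComodLib.convAction k A A

theorem opHom_apply (φ : WithConv (A →ₗ[k] k)) : (opHom φ : A →ₗ[k] A) = opD φ.ofConv := rfl

section Sub

variable (S : Subalgebra k A)

/-- Conjugation only involves the given subalgebra. -/
def ConjIn : Prop := ∀ a, conjHom k A a ∈ LinearMap.range (LinearMap.lTensor A S.val.toLinearMap)

/-- A linear form satisfying the Leibniz rule at the unit on a subalgebra. -/
def IsDerOn (d : A →ₗ[k] k) : Prop :=
  ∀ a ∈ S, ∀ b ∈ S, d (a * b) = Coalgebra.counit (R := k) a * d b + Coalgebra.counit (R := k) b * d a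

variable {S}

theorem opD_congr (hS : ConjIn S) {φ ψ : A →ₗ[k] k} (h : ∀ a ∈ S, φ a = ψ a) (a : A) : opD φ a = opD ψ a := by
  obtain ⟨z, hz⟩ := hS a
  rw [opD_apply, opD_apply, ← hz, ← LinearMap.comp_apply, ← LinearMap.comp_apply, ← LinearMap.lTensor_comp,
    ← LinearMap.lTensor_comp, show φ ∘ₗ S.val.toLinearMap = ψ ∘ₗ S.val.toLinearMap from
      LinearMap.ext fun b => h b b.2]

theorem IsDerOn.one {d : A →ₗ[k] k} (hd : IsDerOn S d) : d 1 = 0 := by
  have h := hd 1 S.one_mem 1 S.one_mem
  simp only [mul_one, Bialgebra.counit_one, one_mul] at h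
  exact add_eq_left.mp h.symm

theorem opD_mul (hS : ConjIn S) {d : A →ₗ[k] k} (hd : IsDerOn S d) (a b : A) :
    opD d (a * b) = a * opD d b + b * opD d a := by
  have key : ∀ p q : A ⊗[k] S, TensorProduct.rid k A (LinearMap.lTensor A d
      (LinearMap.lTensor A S.val.toLinearMap p * LinearMap.lTensor A S.val.toLinearMap q)) =
      TensorProduct.rid k A (LinearMap.lTensor A (Coalgebra.counit (R := k)) (LinearMap.lTensor A S.val.toLinearMap p)) *
          TensorProduct.rid k A (LinearMap.lTensor A d (LinearMap.lTensor A S.val.toLinearMap q)) +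
        TensorProduct.rid k A (LinearMap.lTensor A (Coalgebra.counit (R := k)) (LinearMap.lTensor A S.val.toLinearMap q)) *
          TensorProduct.rid k A (LinearMap.lTensor A d (LinearMap.lTensor A S.val.toLinearMap p)) := by
    intro p q
    induction p using TensorProduct.induction_on with
    | zero => simp
    | tmul x y =>
      induction q using TensorProduct.induction_on with
      | zero => simp
      | tmul x' y' =>
        simp only [LinearMap.lTensor_tmul, Algebra.TensorProduct.tmul_mul_tmul, TensorProduct.rid_tmul,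
          AlgHom.toLinearMap_apply, Subalgebra.coe_val, hd _ y.2 _ y'.2, add_smul, smul_mul_smul_comm,
          mul_comm x' x]
      | add q q' hq hq' => simp only [mul_add, add_mul, map_add, hq, hq']; abel
    | add p p' hp hp' => simp only [mul_add, add_mul, map_add, hp, hp']; abel
  obtain ⟨p, hp⟩ := hS a
  obtain ⟨q, hq⟩ := hS b
  rw [opD_apply, opD_apply, opD_apply, map_mul, ← hp, ← hq, key, hp, hq, lTensor_counit_conjHom,
    lTensor_counit_conjHom]

theorem counit_opD (d : A →ₗ[k] k) (h1 : d 1 = 0) (a : A) : Coalgebra.counit (R := k) (opD d a) = 0 := by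
  have h : ∀ z : A ⊗[k] A, Coalgebra.counit (R := k) (TensorProduct.rid k A (LinearMap.lTensor A d z)) =
      d (TensorProduct.lid k A (LinearMap.rTensor A (Coalgebra.counit (R := k)) z)) := fun z => by
    induction z using TensorProduct.induction_on with
    | zero => simp
    | tmul x y => simp [mul_comm]
    | add p q hp hq => simp only [map_add, hp, hq]
  rw [opD_apply, h, counit_rTensor_conjHom, Algebra.algebraMap_eq_smul_one, map_smul, h1, smul_zero]

theorem opD_antipode (d : A →ₗ[k] k) (a : A) :
    opD d (HopfAlgebraStruct.antipode (R := k) a) = HopfAlgebraStruct.antipode (R := k) (opD d a) := by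
  rw [opD_apply, opD_apply, conjHom_antipode]
  induction conjHom k A a using TensorProduct.induction_on with
  | zero => simp
  | tmul x y => simp [HopfAlgebra.antipodeAlgHom]
  | add p q hp hq => simp only [map_add, hp, hq]

theorem comul_opD (hS : ConjIn S) {d : A →ₗ[k] k} (hd : IsDerOn S d) (a : A) :
    Coalgebra.comul (R := k) (opD d a) = (LinearMap.rTensor A (opD d) + LinearMap.lTensor A (opD d))
      (Coalgebra.comul (R := k) a) := by
  let φ : A ⊗[k] A →ₐ[k] (A ⊗[k] A) ⊗[k] A := Algebra.TensorProduct.map (Bialgebra.comulAlgHom k A) (AlgHom.id k A)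
  let χ₁ : A ⊗[k] A →ₐ[k] (A ⊗[k] A) ⊗[k] A :=
    Algebra.TensorProduct.map Algebra.TensorProduct.includeLeft (AlgHom.id k A)
  let χ₂ : A ⊗[k] A →ₐ[k] (A ⊗[k] A) ⊗[k] A :=
    Algebra.TensorProduct.map Algebra.TensorProduct.includeRight (AlgHom.id k A)
  let U : WithConv (A →ₐ[k] (A ⊗[k] A) ⊗[k] A) :=
    toConv ((Algebra.TensorProduct.includeLeft : A ⊗[k] A →ₐ[k] (A ⊗[k] A) ⊗[k] A).comp Algebra.TensorProduct.includeLeft)
  let V : WithConv (A →ₐ[k] (A ⊗[k] A) ⊗[k] A) :=
    toConv ((Algebra.TensorProduct.includeLeft : A ⊗[k] A →ₐ[k] (A ⊗[k] A) ⊗[k] A).comp Algebra.TensorProduct.includeRight)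
  let W : WithConv (A →ₐ[k] (A ⊗[k] A) ⊗[k] A) := toConv Algebra.TensorProduct.includeRight
  have h : toConv (φ.comp (conjHom k A)) = toConv (χ₁.comp (conjHom k A)) * toConv (χ₂.comp (conjHom k A)) := by
    rw [map_conjHom, map_conjHom, map_conjHom,
      show toConv (φ.comp Algebra.TensorProduct.includeRight) = W from
        WithConv.ofConv_injective (AlgHom.ext fun x => by simp [φ, W, Algebra.TensorProduct.one_def]),
      show toConv (χ₁.comp Algebra.TensorProduct.includeRight) = W from
        WithConv.ofConv_injective (AlgHom.ext fun x => by simp [χ₁, W, Algebra.TensorProduct.one_def]),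
      show toConv (χ₂.comp Algebra.TensorProduct.includeRight) = W from
        WithConv.ofConv_injective (AlgHom.ext fun x => by simp [χ₂, W, Algebra.TensorProduct.one_def]),
      show toConv (χ₁.comp Algebra.TensorProduct.includeLeft) = U from
        WithConv.ofConv_injective (AlgHom.ext fun x => by simp [χ₁, U]),
      show toConv (χ₂.comp Algebra.TensorProduct.includeLeft) = V from
        WithConv.ofConv_injective (AlgHom.ext fun x => by simp [χ₂, V]),
      show toConv (φ.comp Algebra.TensorProduct.includeLeft) = U * V by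
        rw [show φ.comp Algebra.TensorProduct.includeLeft =
          (Algebra.TensorProduct.includeLeft : A ⊗[k] A →ₐ[k] (A ⊗[k] A) ⊗[k] A).comp (Bialgebra.comulAlgHom k A) from
            AlgHom.ext fun x => by simp [φ]]
        show post _ (toConv (Bialgebra.comulAlgHom k A)) = _
        rw [comul_eq_mul, map_mul]
        rfl]
    letI G₀ : Group (WithConv (A →ₐ[k] (A ⊗[k] A) ⊗[k] A)) := MultTypeLib.algConvGroup
    show (W⁻¹ * (U * V) * W : WithConv (A →ₐ[k] (A ⊗[k] A) ⊗[k] A)) = W⁻¹ * U * W * (W⁻¹ * V * W)
    rw [@_root_.mul_assoc _ _ (W⁻¹) U W, @_root_.mul_assoc _ _ W⁻¹ V W]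
    group
  let sl : (A ⊗[k] A) ⊗[k] A →ₗ[k] A ⊗[k] A :=
    (TensorProduct.rid k (A ⊗[k] A)).toLinearMap ∘ₗ LinearMap.lTensor (A ⊗[k] A) d
  have hl : ∀ z, sl (φ z) = Coalgebra.comul (R := k) (TensorProduct.rid k A (LinearMap.lTensor A d z)) := fun z => by
    induction z using TensorProduct.induction_on with
    | zero => simp
    | tmul x y => simp [sl, φ]
    | add p q hp hq => simp only [map_add, hp, hq]
  have key : ∀ p q : A ⊗[k] S, sl (χ₁ (LinearMap.lTensor A S.val.toLinearMap p) *
      χ₂ (LinearMap.lTensor A S.val.toLinearMap q)) =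
      TensorProduct.rid k A (LinearMap.lTensor A (Coalgebra.counit (R := k)) (LinearMap.lTensor A S.val.toLinearMap p)) ⊗ₜ
          TensorProduct.rid k A (LinearMap.lTensor A d (LinearMap.lTensor A S.val.toLinearMap q)) +
        TensorProduct.rid k A (LinearMap.lTensor A d (LinearMap.lTensor A S.val.toLinearMap p)) ⊗ₜ
          TensorProduct.rid k A (LinearMap.lTensor A (Coalgebra.counit (R := k)) (LinearMap.lTensor A S.val.toLinearMap q)) := by
    intro p q
    induction p using TensorProduct.induction_on with
    | zero => simp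
    | tmul x y =>
      induction q using TensorProduct.induction_on with
      | zero => simp
      | tmul x' y' =>
        simp only [LinearMap.lTensor_tmul, TensorProduct.rid_tmul, AlgHom.toLinearMap_apply, Subalgebra.coe_val, χ₁, χ₂,
          Algebra.TensorProduct.map_tmul, Algebra.TensorProduct.tmul_mul_tmul, Algebra.TensorProduct.includeLeft_apply,
          Algebra.TensorProduct.includeRight_apply, AlgHom.id_apply, one_mul, mul_one, sl, LinearMap.comp_apply,
          LinearEquiv.coe_coe, hd _ y.2 _ y'.2, add_smul]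
        simp only [TensorProduct.smul_tmul', TensorProduct.tmul_smul, smul_smul]
        simp only [mul_comm, add_comm]
      | add q q' hq hq' => simp only [mul_add, map_add, TensorProduct.tmul_add, hq, hq']; abel
    | add p p' hp hp' => simp only [add_mul, map_add, TensorProduct.add_tmul, hp, hp']; abel
  have h2 := congrArg sl (DFunLike.congr_fun (congrArg WithConv.ofConv h) a)
  rw [WithConv.ofConv_toConv, AlgHom.comp_apply, hl, AlgHom.convMul_apply] at h2
  rw [opD_apply, h2]
  induction Coalgebra.comul (R := k) a using TensorProduct.induction_on with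
  | zero => simp
  | tmul x y =>
    obtain ⟨p, hp⟩ := hS x
    obtain ⟨q, hq⟩ := hS y
    simp only [WithConv.ofConv_toConv, Algebra.TensorProduct.lift_tmul, AlgHom.comp_apply, LinearMap.add_apply,
      LinearMap.rTensor_tmul, LinearMap.lTensor_tmul]
    rw [← hp, ← hq, key, hp, hq, lTensor_counit_conjHom, lTensor_counit_conjHom, opD_apply, opD_apply, add_comm]
  | add p q hp hq => simp only [map_add, hp, hq]

theorem isHopfIdeal_imIdeal (hS : ConjIn S) {d : A →ₗ[k] k} (hd : IsDerOn S d) :
    (imIdeal (opD d)).IsHopfIdeal k := by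
  set I := imIdeal (opD d)
  have hmem : ∀ a, opD d a ∈ I := fun a => Ideal.subset_span ⟨a, rfl⟩
  have hε : ∀ x ∈ I, Coalgebra.counit (R := k) x = 0 := fun x hx => by
    induction hx using Submodule.span_induction with
    | mem z hz => obtain ⟨a, rfl⟩ := hz; exact counit_opD d hd.one a
    | zero => exact map_zero _
    | add p q _ _ hp hq => rw [map_add, hp, hq, add_zero]
    | smul c p _ hp => rw [smul_eq_mul, Bialgebra.counit_mul, hp, mul_zero]
  let M : A →ₐ[k] (A ⧸ I) ⊗[k] (A ⧸ I) :=
    (Algebra.TensorProduct.map (Ideal.Quotient.mkₐ k I) (Ideal.Quotient.mkₐ k I)).comp (Bialgebra.comulAlgHom k A)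
  have hM : ∀ x ∈ I, M x = 0 := fun x hx => by
    induction hx using Submodule.span_induction with
    | mem z hz =>
      obtain ⟨a, rfl⟩ := hz
      show Algebra.TensorProduct.map (Ideal.Quotient.mkₐ k I) (Ideal.Quotient.mkₐ k I)
        (Coalgebra.comul (R := k) (opD d a)) = 0
      rw [comul_opD hS hd]
      induction Coalgebra.comul (R := k) a using TensorProduct.induction_on with
      | zero => simp
      | tmul x y =>
        simp only [LinearMap.add_apply, LinearMap.rTensor_tmul, LinearMap.lTensor_tmul, map_add,
          Algebra.TensorProduct.map_tmul, Ideal.Quotient.mkₐ_eq_mk, Ideal.Quotient.eq_zero_iff_mem.mpr (hmem x),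
          Ideal.Quotient.eq_zero_iff_mem.mpr (hmem y), TensorProduct.zero_tmul, TensorProduct.tmul_zero, add_zero]
      | add p q hp hq => simp only [map_add, hp, hq, add_zero]
    | zero => exact map_zero M
    | add p q _ _ hp hq => rw [map_add, hp, hq, add_zero]
    | smul c p _ hp => rw [smul_eq_mul, map_mul, hp, mul_zero]
  refine { counit_eq_zero := fun x hx => hε x hx, map_mkQ_comul_eq_zero := fun x hx => ?_, antipode_mem := fun x hx => ?_ }
  · exact hM x hx
  · induction hx using Submodule.span_induction with
    | mem z hz => obtain ⟨a, rfl⟩ := hz; rw [← opD_antipode]; exact hmem _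
    | zero => rw [map_zero]; exact I.zero_mem
    | add p q _ _ hp hq => rw [map_add]; exact I.add_mem hp hq
    | smul c p _ hp => rw [smul_eq_mul, HopfAlgebra.antipode_mul_distrib]; exact I.mul_mem_left _ hp

/-- Compatibility with homomorphisms. -/
theorem opD_natural {B : Type u} [CommRing B] [HopfAlgebra k B] (ι : B →ₐc[k] A) (φ : A →ₗ[k] k) (b : B) :
    opD φ (ι b) = ι (opD (φ ∘ₗ (ι : B →ₐ[k] A).toLinearMap) b) := by
  have h := DFunLike.congr_fun (conjHom_natural ι) b
  rw [AlgHom.comp_apply, AlgHom.comp_apply] at h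
  rw [opD_apply, opD_apply, show conjHom k A (ι b) = _ from h.symm]
  induction conjHom k B b using TensorProduct.induction_on with
  | zero => simp
  | tmul x y => simp
  | add p q hp hq => simp only [map_add, hp, hq]

end Sub

end Groth.Agent.Deform.TorusExist
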