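import Groth.Agent.Deform.TorusExist.NonAffine
import Groth.Agent.S4120
import Groth.Agent.S16791
import Groth.Agent.S4642

/-!
# Maximal subtori over a field are maximal tori
-/

set_option autoImplicit false
set_option linter.style.haveILetI false
set_option linter.unusedSectionVars false
set_option maxHeartbeats 4000000

universe u

open CategoryTheory CategoryTheory.Limits MonoidalCategory CartesianMonoidalCategory MonObj AlgebraicGeometry

attribute [local instance] CategoryTheory.Hom.monoid CategoryTheory.Hom.group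

noncomputable section

namespace Groth.Agent.Deform.TorusExist

open FrobDesc (yK)

attribute [local instance] geomAlg

variable {k : Type u} [Field k]

/-- An isomorphism is detected after extending the field. -/
theorem isIso_of_bc {K : Type u} [Field K] [Algebra k K] {X Y : Over (Spec (CommRingCat.of k))} (f : X ⟶ Y)
    [IsIso ((Over.pullback (yK k K)).map f)] : IsIso f := by
  haveI : Flat (yK k K) := GrpSchLib.flat_spec_map_field (algebraMap k K)
  haveI : Surjective (yK k K) :=
    ⟨fun y => ⟨IsLocalRing.closedPoint K, Subsingleton.elim (α := PrimeSpectrum k) _ _⟩⟩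
  haveI : IsIso f.left :=
    MorphismProperty.of_isPullback_of_descendsAlong (P := MorphismProperty.isomorphisms Scheme)
      (Q := @Surjective ⊓ @Flat ⊓ @QuasiCompact) (Deform.Extension.isPullback_map_left (yK k K) f)
      ⟨⟨inferInstance, inferInstance⟩, inferInstance⟩
      ((Over.forget _).map_isIso ((Over.pullback (yK k K)).map f))
  haveI : IsIso ((Over.forget _).map f) := ‹IsIso f.left›
  exact isIso_of_reflects_iso f (Over.forget _)

/-- Geometrically maximal tori are maximal subtori. -/
theorem isMaxTorus_of_isMaximalTorus {T G : Over (Spec (CommRingCat.of k))} [GrpObj T] [GrpObj G] {i : T ⟶ G}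
    (h : Red.IsMaximalTorus i) : AGF.IsMaxTorus i := by
  obtain ⟨him, himo, hT, -⟩ := id h
  haveI := him; haveI := himo
  refine ⟨him, himo, hT, fun T' _ j _ _ f hT' hf => ?_⟩
  let F := Over.pullback (yK k (GK k))
  haveI : IsIso (F.map f) := (isMaximalTorus_iff i hT).mp h (Red.bc (yK k (GK k)) T') (F.map j) (F.map f)
    (Deform.isTorus_bc _ hT') (by rw [← F.map_comp, hf])
  exact isIso_of_bc (K := GK k) f

/-- **Maximal subtori are geometrically maximal.** -/
theorem isMaximalTorus_of_isMaxTorus {G : Over (Spec (CommRingCat.of k))} [GrpObj G] [IsAffine G.left] [Smooth G.hom]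
    {T : Over (Spec (CommRingCat.of k))} [GrpObj T] {i : T ⟶ G} (h : AGF.IsMaxTorus i) : Red.IsMaximalTorus i := by
  obtain ⟨him, himo, hT, hmax⟩ := h
  haveI := him; haveI := himo
  obtain ⟨hTa, hTl, hTs, -⟩ := Deform.TorusBasic.props hT
  haveI := hTa; haveI := hTl; haveI := hTs
  haveI : IsAffineHom T.hom := isAffineHom_of_isAffine _
  haveI : IsAffineHom G.hom := isAffineHom_of_isAffine _
  haveI : IsClosedImmersion i.left := Borel.isClosedImmersion_of_mono i
  obtain ⟨⟨C, iC, c, hc, hcc, hCs⟩, -⟩ := S3006.result _ G T i inferInstance hT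
  haveI := hcc; haveI := hCs
  obtain ⟨hcm, hcmo, hcu⟩ := id hc
  haveI := hcm; haveI := hcmo
  haveI : IsAffine C.left := isAffine_of_isAffineHom c.left
  haveI : IsAffineHom C.hom := isAffineHom_of_isAffine _
  obtain ⟨T₁, iT₁, i₁, hT₁⟩ := exists_maxTorus C
  obtain ⟨h₁m, h₁mo, hT₁t, -⟩ := id hT₁
  haveI := h₁m; haveI := h₁mo
  have hcomm := GrpSchLib.RankOne.torus_mul_comm hT
  obtain ⟨u', hu'⟩ := (hcu T i).mpr fun X x h => by
    rw [← MonObj.mul_comp, ← MonObj.mul_comp, hcomm]
  haveI : IsMonHom u' := Deform.isMonHom_of_comp u' c hu'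
  haveI : Mono u' := mono_of_mono_fac hu'
  obtain ⟨f, hf⟩ := S4120.result _ C T₁ T i₁ u' hT₁ hT fun X t r => by
    rw [← cancel_mono c, MonObj.mul_comp, MonObj.mul_comp, Category.assoc r, hu']
    have h1 := (hcu X ((t ≫ i₁) ≫ c)).mp ⟨t ≫ i₁, rfl⟩ X (𝟙 X) r
    rwa [Category.id_comp] at h1
  haveI : IsIso f := hmax T₁ (i₁ ≫ c) f hT₁t (by rw [reassoc_of% hf, hu'])
  refine (isMaximalTorus_iff i hT).mpr fun T' _ j _ _ g hT' hg => ?_
  let F := Over.pullback (yK k (GK k))
  obtain ⟨-, hCKm, hCKu⟩ := Borel.isCentralizerOf_bc (yK k (GK k)) hc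
  haveI := hCKm
  obtain ⟨j', hj'⟩ := (hCKu T' j).mpr fun X x h => by
    rw [← hg, ← Category.assoc, ← MonObj.mul_comp, ← MonObj.mul_comp, GrpSchLib.RankOne.torus_mul_comm hT']
  haveI : IsMonHom j' := Deform.isMonHom_of_comp j' (F.map c) hj'
  haveI : Mono j' := mono_of_mono_fac hj'
  haveI : IsIso (inv (F.map f) ≫ g) := (isMaximalTorus_iff i₁ hT₁t).mp hT₁ T' j' (inv (F.map f) ≫ g) hT' (by
    rw [Category.assoc, IsIso.inv_comp_eq, ← F.map_comp, hf, ← cancel_mono (F.map c), Category.assoc, hj', hg,
      ← F.map_comp, hu'])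
  exact IsIso.of_isIso_comp_left (inv (F.map f)) g

/-- Maximality of subtori is invariant under field extensions. -/
theorem isMaxTorus_bc_iff {K : Type u} [Field K] [Algebra k K] {G : Over (Spec (CommRingCat.of k))} [GrpObj G]
    [IsAffine G.left] [Smooth G.hom] {T : Over (Spec (CommRingCat.of k))} [GrpObj T] (i : T ⟶ G) [IsMonHom i] [Mono i]
    (hT : Red.IsTorus T) : AGF.IsMaxTorus i ↔ AGF.IsMaxTorus ((Over.pullback (yK k K)).map i) := by
  haveI : IsAffineHom G.hom := isAffineHom_of_isAffine _
  haveI : Surjective (yK k K) :=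
    ⟨fun y => ⟨IsLocalRing.closedPoint K, Subsingleton.elim (α := PrimeSpectrum k) _ _⟩⟩
  haveI : IsAffineHom (Red.bc (yK k K) G).hom := inferInstanceAs (IsAffineHom (pullback.snd G.hom (yK k K)))
  haveI : IsAffine (Red.bc (yK k K) G).left := isAffine_of_isAffineHom (Red.bc (yK k K) G).hom
  haveI : Smooth (Red.bc (yK k K) G).hom := inferInstanceAs (Smooth (pullback.snd G.hom (yK k K)))
  have h := S16791.result (S' := Spec (CommRingCat.of K)) (G := G) inferInstance inferInstance i hT (yK k K) inferInstance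
  exact ⟨fun hi => isMaxTorus_of_isMaximalTorus (h.mp (isMaximalTorus_of_isMaxTorus hi)),
    fun hi => isMaxTorus_of_isMaximalTorus (h.mpr (isMaximalTorus_of_isMaxTorus hi))⟩

/-- Maximal subtori have the same dimension. -/
theorem dim_eq {G : Over (Spec (CommRingCat.of k))} [GrpObj G] [IsAffine G.left] [Smooth G.hom] [ConnectedSpace G.left]
    {T T' : Over (Spec (CommRingCat.of k))} [GrpObj T] [GrpObj T'] {i : T ⟶ G} {i' : T' ⟶ G}
    (h : AGF.IsMaxTorus i) (h' : AGF.IsMaxTorus i') :
    topologicalKrullDim ↥T.left = topologicalKrullDim ↥T'.left := by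
  obtain ⟨him, himo, hT, -⟩ := id h
  obtain ⟨him', himo', hT', -⟩ := id h'
  haveI := him; haveI := himo; haveI := him'; haveI := himo'
  haveI : LocallyOfFiniteType T.hom := (Deform.TorusBasic.props hT).2.1
  haveI : LocallyOfFiniteType T'.hom := (Deform.TorusBasic.props hT').2.1
  obtain ⟨hKa, hKs, hKc⟩ := Borel.bc_props (yK k (AlgebraicClosure k)) G
  haveI := hKa; haveI := hKs; haveI := hKc
  haveI : IsAffineHom (Red.bc (yK k (AlgebraicClosure k)) G).hom := isAffineHom_of_isAffine _
  obtain ⟨-, e, -, -⟩ := Borel.conj_of_max _ _ ((isMaxTorus_bc_iff (K := AlgebraicClosure k) i hT).mp h)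
    ((isMaxTorus_bc_iff (K := AlgebraicClosure k) i' hT').mp h')
  rw [← S4642.result (K := AlgebraicClosure k) T.hom, ← S4642.result (K := AlgebraicClosure k) T'.hom]
  exact ((Over.forget _).mapIso e).hom.homeomorph.isClosedEmbedding.topologicalKrullDim_le.antisymm
    ((Over.forget _).mapIso e).inv.homeomorph.isClosedEmbedding.topologicalKrullDim_le

/-- Triviality is detected after extending the field. -/
theorem isTrivialGrp_of_bc_field {K : Type u} [Field K] [Algebra k K] (T : Over (Spec (CommRingCat.of k)))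
    (h : Red.IsTrivialGrp (Red.bc (yK k K) T)) : Red.IsTrivialGrp T := by
  haveI : Flat (yK k K) := GrpSchLib.flat_spec_map_field (algebraMap k K)
  haveI : Surjective (yK k K) :=
    ⟨fun y => ⟨IsLocalRing.closedPoint K, Subsingleton.elim (α := PrimeSpectrum k) _ _⟩⟩
  exact MorphismProperty.of_pullback_snd_of_descendsAlong (P := MorphismProperty.isomorphisms Scheme)
    (Q := @Surjective ⊓ @Flat ⊓ @QuasiCompact) (g := yK k K) ⟨⟨inferInstance, inferInstance⟩, inferInstance⟩ h

/-- Absence of subtori is invariant under passing to an algebraic closure. -/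
theorem hasNoSubtorus_iff (K : Type u) [Field K] [IsAlgClosed K] [Algebra k K] (M : Over (Spec (CommRingCat.of k)))
    [GrpObj M] [IsAffine M.left] [Smooth M.hom] :
    Red.HasNoSubtorus k M ↔ Red.HasNoSubtorus K (Red.bc (yK k K) M) := by
  let F := Over.pullback (yK k K)
  constructor
  · intro h T' _ j _ _ hT'
    obtain ⟨T, iT, i, hi⟩ := exists_maxTorus M
    obtain ⟨him, himo, hT, -⟩ := id hi
    haveI := him; haveI := himo
    have htriv : IsIso T.hom := h T i hT
    haveI := htriv
    obtain ⟨-, -, -, hmax⟩ := (isMaxTorus_bc_iff (K := K) i hT).mp (isMaxTorus_of_isMaximalTorus hi)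
    haveI hK : IsIso (Red.bc (yK k K) T).hom := inferInstanceAs (IsIso (pullback.snd T.hom (yK k K)))
    have hT1 : ∀ {X : Over (Spec (CommRingCat.of K))} (a b : X ⟶ Red.bc (yK k K) T), a = b := fun a b =>
      Over.OverMorphism.ext ((cancel_mono (Red.bc (yK k K) T).hom).mp ((Over.w a).trans (Over.w b).symm))
    haveI := hmax T' j 1 hT' (by
      rw [MonObj.one_comp, show F.map i = 𝟙 _ ≫ F.map i from (Category.id_comp _).symm,
        show 𝟙 (Red.bc (yK k K) T) = 1 from hT1 _ _, MonObj.one_comp])
    haveI : IsIso ((1 : Red.bc (yK k K) T ⟶ T').left) := (Over.forget _).map_isIso (1 : Red.bc (yK k K) T ⟶ T')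
    show IsIso T'.hom
    have e : (1 : Red.bc (yK k K) T ⟶ T').left ≫ T'.hom = (Red.bc (yK k K) T).hom := Over.w _
    rw [← IsIso.eq_inv_comp] at e
    rw [e]; infer_instance
  · intro h T _ j _ _ hT
    exact isTrivialGrp_of_bc_field (K := K) T (h (Red.bc (yK k K) T) (F.map j) (Deform.isTorus_bc _ hT))

end Groth.Agent.Deform.TorusExist
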