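import Groth.Agent.Deform.TorusExist.Sub

/-!
# Points with values in a field and the invariant attached to a derivation
-/

set_option autoImplicit false
set_option linter.style.haveILetI false
set_option linter.unusedSectionVars false
set_option maxHeartbeats 1000000

universe u

open TensorProduct WithConv

noncomputable section

namespace Groth.Agent.Deform.TorusExist

variable {k : Type u} [Field k] {K : Type u} [Field K] [Algebra k K] {A : Type u} [CommRing A] [HopfAlgebra k A]

attribute [local instance 2000] MultTypeLib.algConvGroup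

/-- Points as elements of the convolution algebra. -/
abbrev lin (x : WithConv (A →ₐ[k] K)) : WithConv (A →ₗ[k] K) := MultTypeLib.lin x

/-- A point followed by the operator of a linear form. -/
def moved (d : A →ₗ[k] k) (x : WithConv (A →ₐ[k] K)) : WithConv (A →ₗ[k] K) :=
  toConv (x.ofConv.toLinearMap ∘ₗ opD d)

theorem moved_eq_zero_iff (d : A →ₗ[k] k) (x : WithConv (A →ₐ[k] K)) :
    moved d x = 0 ↔ ∀ a ∈ imIdeal (opD d), x.ofConv a = 0 := by
  constructor
  · intro h a ha
    induction ha using Submodule.span_induction with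
    | mem z hz => obtain ⟨b, rfl⟩ := hz; exact LinearMap.congr_fun (congrArg WithConv.ofConv h) b
    | zero => exact map_zero _
    | add p q _ _ hp hq => rw [map_add, hp, hq, add_zero]
    | smul c p _ hp => rw [smul_eq_mul, map_mul, hp, mul_zero]
  · exact fun h => WithConv.ofConv_injective (LinearMap.ext fun b => h _ (Ideal.subset_span ⟨b, rfl⟩))

variable {S : Subalgebra k A}

theorem moved_mul (hS : ConjIn S) {d : A →ₗ[k] k} (hd : IsDerOn S d) (x y : WithConv (A →ₐ[k] K)) :
    moved d (x * y) = moved d x * lin y + lin x * moved d y := by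
  refine WithConv.ofConv_injective (LinearMap.ext fun a => ?_)
  show (x * y).ofConv (opD d a) = (moved d x * lin y) a + (lin x * moved d y) a
  rw [show (x * y).ofConv (opD d a) = (x * y) (opD d a) from rfl, AlgHom.convMul_apply, comul_opD hS hd,
    LinearMap.convMul_apply, LinearMap.convMul_apply]
  induction Coalgebra.comul (R := k) a using TensorProduct.induction_on with
  | zero => simp
  | tmul p q => simp [moved, lin, MultTypeLib.lin]
  | add p q hp hq => simp only [map_add, hp, hq]; abel

/-- The invariant of a point. -/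
def eta (d : A →ₗ[k] k) (x : WithConv (A →ₐ[k] K)) : WithConv (A →ₗ[k] K) := moved d x * lin x⁻¹

theorem eta_mul_lin (d : A →ₗ[k] k) (x : WithConv (A →ₐ[k] K)) : eta d x * lin x = moved d x := by
  rw [eta, _root_.mul_assoc, ← map_mul, inv_mul_cancel, map_one, _root_.mul_one]

theorem eta_leibniz (hS : ConjIn S) {d : A →ₗ[k] k} (hd : IsDerOn S d) (x : WithConv (A →ₐ[k] K)) (a b : A) :
    eta d x (a * b) = algebraMap k K (Coalgebra.counit (R := k) a) * eta d x b +
      algebraMap k K (Coalgebra.counit (R := k) b) * eta d x a := by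
  have h1 : ∀ c : A, (x * x⁻¹) c = algebraMap k K (Coalgebra.counit (R := k) c) := fun c => by
    rw [mul_inv_cancel]; rfl
  rw [← h1, ← h1]
  simp only [eta, LinearMap.convMul_apply, AlgHom.convMul_apply, Bialgebra.comul_mul]
  induction Coalgebra.comul (R := k) a using TensorProduct.induction_on with
  | zero => simp
  | tmul p q =>
    induction Coalgebra.comul (R := k) b using TensorProduct.induction_on with
    | zero => simp
    | tmul p' q' => simp [moved, lin, MultTypeLib.lin, opD_mul hS hd]; ring
    | add p' q' hp hq => simp only [mul_add, map_add, hp, hq]; ring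
  | add p q hp hq => simp only [add_mul, map_add, hp, hq]; ring

theorem eq_zero_on_mul (P : ConjData k A) {φ : WithConv (A →ₗ[k] K)} (h : ∀ a ∈ P.S, φ a = 0) (ψ : WithConv (A →ₗ[k] K))
    (a : A) (ha : a ∈ P.S) : (φ * ψ) a = 0 := by
  obtain ⟨z, hz⟩ := P.isHopf.1 a ha
  rw [LinearMap.convMul_apply, ← hz]
  clear hz
  induction z using TensorProduct.induction_on with
  | zero => simp
  | tmul p q => simp [h _ p.2]
  | add p q hp hq => simp only [map_add, hp, hq, add_zero]

/-- An invariant form killed by the coefficients commutes with all points. -/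
theorem comm_of_vanish {S : Subalgebra k A} (hS : ConjIn S) {φ : WithConv (A →ₗ[k] K)}
    (hφ : ∀ a b, φ (a * b) = algebraMap k K (Coalgebra.counit (R := k) a) * φ b +
      algebraMap k K (Coalgebra.counit (R := k) b) * φ a)
    (h0 : ∀ a ∈ S, φ a = 0) (g : WithConv (A →ₐ[k] K)) : lin g * φ = φ * lin g := by
  have h1 : φ (1 : A) = 0 := by
    have h := hφ 1 1
    simp only [mul_one, Bialgebra.counit_one, map_one, one_mul] at h
    exact add_eq_left.mp h.symm
  have hanti : ∀ x, φ (HopfAlgebraStruct.antipode (R := k) x) = - φ x := fun x => by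
    have key : ∀ z : A ⊗[k] A, φ (LinearMap.mul' k A (LinearMap.rTensor A (HopfAlgebraStruct.antipode (R := k)) z)) =
        φ (TensorProduct.lid k A (LinearMap.rTensor A (Coalgebra.counit (R := k)) z)) +
          φ (HopfAlgebraStruct.antipode (R := k) (TensorProduct.rid k A (LinearMap.lTensor A (Coalgebra.counit (R := k)) z))) := fun z => by
      induction z using TensorProduct.induction_on with
      | zero => simp
      | tmul p q =>
        have h2 : Coalgebra.counit (R := k) (HopfAlgebraStruct.antipode (R := k) p) = Coalgebra.counit (R := k) p :=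
          HopfAlgebra.counit_antipode _
        simp [hφ, h2]
        simp only [Algebra.smul_def]
      | add p q hp hq => simp only [map_add, hp, hq]; abel
    have h := key (Coalgebra.comul (R := k) x)
    rw [show LinearMap.mul' k A (LinearMap.rTensor A (HopfAlgebraStruct.antipode (R := k)) (Coalgebra.comul (R := k) x)) =
      algebraMap k A (Coalgebra.counit (R := k) x) from HopfAlgebra.mul_antipode_rTensor_comul_apply x,
      Algebra.algebraMap_eq_smul_one, map_smul, h1, smul_zero, Coalgebra.rTensor_counit_comul,
      Coalgebra.lTensor_counit_comul, TensorProduct.lid_tmul, TensorProduct.rid_tmul, one_smul] at h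
    linear_combination -h
  let e₂ : A ⊗[k] A →ₗ[k] K := LinearMap.mul' k K ∘ₗ TensorProduct.map g.ofConv.toLinearMap φ.ofConv
  let X : WithConv (A →ₐ[k] A ⊗[k] A) := (pR k A)⁻¹ * pL k A
  have hX : ∀ p q : A, e₂ (X p * ((1 : A) ⊗ₜ[k] q)) =
      g p * φ q - algebraMap k K (Coalgebra.counit (R := k) q) * (φ * lin g) p := fun p q => by
    have key : ∀ z : A ⊗[k] A, e₂ (Algebra.TensorProduct.lift ((pR k A)⁻¹).ofConv (pL k A).ofConv
        (fun _ _ => .all _ _) z * ((1 : A) ⊗ₜ[k] q)) =
        g (TensorProduct.lid k A (LinearMap.rTensor A (Coalgebra.counit (R := k)) z)) * φ q -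
          algebraMap k K (Coalgebra.counit (R := k) q) *
            LinearMap.mul' k K (TensorProduct.map φ.ofConv g.ofConv.toLinearMap z) := fun z => by
      induction z using TensorProduct.induction_on with
      | zero => simp
      | tmul x y =>
        rw [Algebra.TensorProduct.lift_tmul,
          show ((pR k A)⁻¹).ofConv x = (1 : A) ⊗ₜ[k] HopfAlgebraStruct.antipode (R := k) x from rfl,
          show (pL k A).ofConv y = y ⊗ₜ[k] (1 : A) from rfl, Algebra.TensorProduct.tmul_mul_tmul, one_mul, mul_one,
          Algebra.TensorProduct.tmul_mul_tmul, mul_one]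
        have h2 : Coalgebra.counit (R := k) (HopfAlgebraStruct.antipode (R := k) x) = Coalgebra.counit (R := k) x :=
          HopfAlgebra.counit_antipode _
        simp only [e₂, LinearMap.comp_apply, TensorProduct.map_tmul, LinearMap.mul'_apply, hφ, hanti,
          LinearMap.rTensor_tmul, TensorProduct.lid_tmul, map_smul, h2, AlgHom.toLinearMap_apply]
        simp only [Algebra.smul_def]
        ring
      | add p q hp hq => simp only [map_add, add_mul, hp, hq]; ring
    rw [AlgHom.convMul_apply, key, Coalgebra.rTensor_counit_comul, TensorProduct.lid_tmul, one_smul,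
      LinearMap.convMul_apply]
    rfl
  refine WithConv.ofConv_injective (LinearMap.ext fun a => sub_eq_zero.mp ?_)
  have h3 : conjHom k A a = Algebra.TensorProduct.lift X.ofConv (pR k A).ofConv (fun _ _ => .all _ _)
      (Coalgebra.comul (R := k) a) := AlgHom.convMul_apply X (pR k A) a
  have key : ∀ z : A ⊗[k] A, e₂ (Algebra.TensorProduct.lift X.ofConv (pR k A).ofConv (fun _ _ => .all _ _) z) =
      LinearMap.mul' k K (TensorProduct.map g.ofConv.toLinearMap φ.ofConv z) -
        (φ * lin g) (TensorProduct.rid k A (LinearMap.lTensor A (Coalgebra.counit (R := k)) z)) := fun z => by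
    induction z using TensorProduct.induction_on with
    | zero => simp
    | tmul p q =>
      rw [Algebra.TensorProduct.lift_tmul, show (pR k A).ofConv q = (1 : A) ⊗ₜ[k] q from rfl, hX]
      simp
      simp only [Algebra.smul_def]
    | add p q hp hq => simp only [map_add, hp, hq]; ring
  have h4 := key (Coalgebra.comul (R := k) a)
  rw [← h3, Coalgebra.lTensor_counit_comul, TensorProduct.rid_tmul, one_smul] at h4
  obtain ⟨z, hz⟩ := hS a
  have h5 : e₂ (conjHom k A a) = 0 := by
    rw [← hz]
    clear hz
    induction z using TensorProduct.induction_on with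
    | zero => simp
    | tmul p q => simp [e₂, h0 _ q.2]
    | add p q hp hq => simp only [map_add, hp, hq, add_zero]
  rw [h5] at h4
  exact (congrArg (· - (φ * lin g).ofConv a) (LinearMap.convMul_apply _ _ a)).trans h4.symm

variable (P : ConjData k A) {d : A →ₗ[k] k}

theorem eta_vanish (x : WithConv (A →ₐ[k] K)) (hx : ∀ a ∈ P.S, moved d x a = 0) : ∀ a ∈ P.S, eta d x a = 0 :=
  fun a ha => eq_zero_on_mul P hx _ a ha

theorem eta_mul (hd : IsDerOn P.S d) (x y : WithConv (A →ₐ[k] K)) (hy : ∀ a ∈ P.S, moved d y a = 0) :
    eta d (x * y) = eta d x + eta d y := by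
  have hc := comm_of_vanish P.conjIn (eta_leibniz P.conjIn hd y) (eta_vanish P y hy) x
  rw [show eta d (x * y) = moved d (x * y) * lin (x * y)⁻¹ from rfl, moved_mul P.conjIn hd, mul_inv_rev,
    show lin (y⁻¹ * x⁻¹) = lin y⁻¹ * lin x⁻¹ from map_mul _ _ _, add_mul]
  congr 1
  · rw [eta, _root_.mul_assoc, ← _root_.mul_assoc (lin y), ← map_mul, mul_inv_cancel, map_one, _root_.one_mul]
  · rw [_root_.mul_assoc, ← _root_.mul_assoc (moved d y)]
    show lin x * (eta d y * lin x⁻¹) = _
    rw [← _root_.mul_assoc, hc, _root_.mul_assoc, ← map_mul, mul_inv_cancel, map_one, _root_.mul_one]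

/-- A torsion point of the preimage of the fixed subgroup is fixed. -/
theorem moved_eq_zero_of_torsion (hd : IsDerOn P.S d) (x : WithConv (A →ₐ[k] K)) (hx : ∀ a ∈ P.S, moved d x a = 0)
    (N : ℕ) (hN : (N : K) ≠ 0) (hxN : x ^ N = 1) : moved d x = 0 := by
  have h1 : eta d (1 : WithConv (A →ₐ[k] K)) = 0 := by
    have h0 : ∀ a ∈ P.S, moved d (1 : WithConv (A →ₐ[k] K)) a = 0 := fun a _ => by
      show algebraMap k K (Coalgebra.counit (R := k) (opD d a)) = 0
      rw [counit_opD d hd.one, map_zero]
    have h := eta_mul P hd 1 1 h0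
    rw [_root_.mul_one] at h
    exact add_eq_left.mp h.symm
  have h2 : ∀ n : ℕ, eta d (x ^ n) = n • eta d x := by
    intro n
    induction n with
    | zero => rw [pow_zero, h1, zero_smul]
    | succ n ih => rw [pow_succ, eta_mul P hd _ _ hx, ih, add_smul, one_smul]
  have h3 := h2 N
  rw [hxN, h1] at h3
  have h4 : eta d x = 0 := WithConv.ofConv_injective (LinearMap.ext fun a => by
    have h5 := LinearMap.congr_fun (congrArg WithConv.ofConv h3.symm) a
    rw [WithConv.ofConv_smul, LinearMap.smul_apply, nsmul_eq_mul] at h5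
    exact (mul_eq_zero.mp h5).resolve_left hN)
  rw [← eta_mul_lin, h4, zero_mul]

/-- Points of the fixed subgroup of the coefficients lie in the preimage. -/
theorem moved_vanish_iff (x : WithConv (A →ₐ[k] K)) :
    letI := GrpSchLib.SubHopf.hopf P.S P.isHopf
    (∀ a ∈ P.S, moved d x a = 0) ↔
      ∀ b ∈ imIdeal (opD (d ∘ₗ P.S.val.toLinearMap)), x.ofConv (P.S.val b) = 0 := by
  letI := GrpSchLib.SubHopf.hopf P.S P.isHopf
  have hn : ∀ b : P.S, opD d (b : A) = ((opD (d ∘ₗ P.S.val.toLinearMap) b : P.S) : A) := fun b => opD_natural P.incl d b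
  constructor
  · intro h b hb
    induction hb using Submodule.span_induction with
    | mem z hz =>
      obtain ⟨c, rfl⟩ := hz
      show x.ofConv ((opD (d ∘ₗ P.S.val.toLinearMap) c : P.S) : A) = 0
      rw [← hn]
      exact h c c.2
    | zero => simp
    | add p q _ _ hp hq => rw [map_add, map_add, hp, hq, add_zero]
    | smul c p _ hp => rw [smul_eq_mul, map_mul, map_mul, hp, mul_zero]
  · intro h a ha
    have h2 := h _ (Ideal.subset_span ⟨⟨a, ha⟩, rfl⟩)
    rw [show P.S.val (opD (d ∘ₗ P.S.val.toLinearMap) ⟨a, ha⟩) = opD d a from (hn ⟨a, ha⟩).symm] at h2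
    exact h2

end Groth.Agent.Deform.TorusExist
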