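import Groth.Agent.Deform.TorusExist.Toral
import Groth.Agent.GrpSchLib.AffineHopf
import Groth.Agent.GrpSchLib.PerfectSmooth
import Groth.Agent.GrpSchLib.SmoothQuot
import Groth.Agent.GrpSchLib.HopfFlat

/-!
# The subgroups fixed by a toral derivation are smooth
-/

set_option autoImplicit false
set_option linter.style.haveILetI false
set_option linter.unusedSectionVars false
set_option maxHeartbeats 1000000

universe u

open TensorProduct WithConv CategoryTheory AlgebraicGeometry
open Groth.Agent.GrpSchLib.AffineHopf (sp spMap)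

noncomputable section

namespace Groth.Agent.Deform.TorusExist

variable {k : Type u} [Field k] {A : Type u} [CommRing A] [HopfAlgebra k A]

theorem smooth_sp {k : Type u} [Field k] (B : Type u) [CommRing B] [Algebra k B] [Algebra.Smooth k B] :
    Smooth (sp k B).hom :=
  (HasRingHomProperty.Spec_iff (P := @Smooth)).mpr (RingHom.smooth_algebraMap.mpr inferInstance)

/-- The equation making a derivation toral, or characteristic zero. -/
def IsToral (S : Subalgebra k A) (d : WithConv (A →ₗ[k] k)) : Prop :=
  CharZero k ∨ ∃ R : Polynomial k, R.coeff 0 = 1 ∧ ∀ a ∈ S, (Polynomial.aeval d (Polynomial.X * R)).ofConv a = 0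

theorem aeval_opD {S : Subalgebra k A} (hS : ConjIn S) (d : WithConv (A →ₗ[k] k)) (P : Polynomial k)
    (h : ∀ a ∈ S, (Polynomial.aeval d P).ofConv a = 0) :
    Polynomial.aeval (opD d.ofConv : Module.End k A) P = 0 := by
  rw [show (opD d.ofConv : Module.End k A) = opHom d from (opHom_apply d).symm, Polynomial.aeval_algHom_apply]
  refine LinearMap.ext fun a => ?_
  rw [opHom_apply, LinearMap.zero_apply, opD_congr hS (ψ := 0) h a, opD_apply, LinearMap.lTensor_zero, LinearMap.zero_apply,
    map_zero]

theorem formallySmooth_of_toral [Algebra.FormallySmooth k A] {S : Subalgebra k A} (hS : ConjIn S)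
    {d : WithConv (A →ₗ[k] k)} (hd : IsDerOn S d.ofConv) {R : Polynomial k} (hR : R.coeff 0 = 1)
    (h : ∀ a ∈ S, (Polynomial.aeval d (Polynomial.X * R)).ofConv a = 0) :
    Algebra.FormallySmooth k (A ⧸ imIdeal (opD d.ofConv)) :=
  formallySmooth_quot (opD d.ofConv) R (opD_mul hS hd) hR (aeval_opD hS d _ h)

/-- The fixed subgroup of a toral derivation is smooth. -/
theorem smooth_fix [Algebra.Smooth k A] {S : Subalgebra k A} (hS : ConjIn S) {d : WithConv (A →ₗ[k] k)}
    (hd : IsDerOn S d.ofConv) (ht : IsToral S d) : Smooth (sp k (A ⧸ imIdeal (opD d.ofConv))).hom := by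
  haveI := isHopfIdeal_imIdeal hS hd
  haveI : Algebra.FiniteType k (A ⧸ imIdeal (opD d.ofConv)) :=
    Algebra.FiniteType.of_surjective (Ideal.Quotient.mkₐ k _) Ideal.Quotient.mk_surjective
  rcases ht with h0 | ⟨R, hR, h⟩
  · haveI := h0
    haveI : _root_.IsReduced (A ⧸ imIdeal (opD d.ofConv)) := ComodLib.isReduced_of_charZero' (k := k)
    haveI : IsReduced (sp k (A ⧸ imIdeal (opD d.ofConv))).left :=
      inferInstanceAs (IsReduced (Spec (CommRingCat.of (A ⧸ imIdeal (opD d.ofConv)))))
    haveI : LocallyOfFiniteType (sp k (A ⧸ imIdeal (opD d.ofConv))).hom :=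
      (HasRingHomProperty.Spec_iff (P := @LocallyOfFiniteType)).mpr (RingHom.finiteType_algebraMap.mpr inferInstance)
    exact GrpSchLib.smooth_of_perfectField_of_isReduced _
  · haveI := formallySmooth_of_toral hS hd hR h
    haveI : Algebra.FinitePresentation k (A ⧸ imIdeal (opD d.ofConv)) :=
      Algebra.FinitePresentation.of_finiteType.mp inferInstance
    haveI : Algebra.Smooth k (A ⧸ imIdeal (opD d.ofConv)) := ⟨inferInstance, inferInstance⟩
    exact smooth_sp (k := k) (A ⧸ imIdeal (opD d.ofConv))

/-- A derivation commutes with itself. -/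
theorem apply_opD_self {d : A →ₗ[k] k} (hd : IsDerOn (⊤ : Subalgebra k A) d) (a : A) : d (opD d a) = 0 := by
  have hS : ∀ x, d (HopfAlgebraStruct.antipode (R := k) x) = - d x := fun x => by
    have key : ∀ z : A ⊗[k] A, d (LinearMap.mul' k A (LinearMap.rTensor A (HopfAlgebraStruct.antipode (R := k)) z)) =
        d (TensorProduct.lid k A (LinearMap.rTensor A (Coalgebra.counit (R := k)) z)) +
          d (HopfAlgebraStruct.antipode (R := k) (TensorProduct.rid k A (LinearMap.lTensor A (Coalgebra.counit (R := k)) z))) := fun z => by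
      induction z using TensorProduct.induction_on with
      | zero => simp
      | tmul p q =>
        have h2 : Coalgebra.counit (R := k) (HopfAlgebraStruct.antipode (R := k) p) = Coalgebra.counit (R := k) p :=
          HopfAlgebra.counit_antipode _
        simp [hd _ trivial _ trivial, h2]
      | add p q hp hq => simp only [map_add, hp, hq]; abel
    have h := key (Coalgebra.comul (R := k) x)
    rw [show LinearMap.mul' k A (LinearMap.rTensor A (HopfAlgebraStruct.antipode (R := k)) (Coalgebra.comul (R := k) x)) =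
      algebraMap k A (Coalgebra.counit (R := k) x) from HopfAlgebra.mul_antipode_rTensor_comul_apply x,
      Algebra.algebraMap_eq_smul_one, map_smul, hd.one, smul_zero, Coalgebra.rTensor_counit_comul,
      Coalgebra.lTensor_counit_comul, TensorProduct.lid_tmul, TensorProduct.rid_tmul, one_smul] at h
    linear_combination -h
  let d₂ : A ⊗[k] A →ₗ[k] k := LinearMap.mul' k k ∘ₗ TensorProduct.map d d
  have hL : ∀ z : A ⊗[k] A, d (TensorProduct.rid k A (LinearMap.lTensor A d z)) = d₂ z := fun z => by
    induction z using TensorProduct.induction_on with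
    | zero => simp
    | tmul x y => simp [d₂, mul_comm]
    | add p q hp hq => simp only [map_add, hp, hq]
  let X : WithConv (A →ₐ[k] A ⊗[k] A) := (pR k A)⁻¹ * pL k A
  have hX : ∀ p q : A, d₂ (X p * ((1 : A) ⊗ₜ[k] q)) =
      d p * d q - Coalgebra.counit (R := k) q * d₂ (Coalgebra.comul (R := k) p) := fun p q => by
    have key : ∀ z : A ⊗[k] A, d₂ (Algebra.TensorProduct.lift ((pR k A)⁻¹).ofConv (pL k A).ofConv
        (fun _ _ => .all _ _) z * ((1 : A) ⊗ₜ[k] q)) =
        d (TensorProduct.lid k A (LinearMap.rTensor A (Coalgebra.counit (R := k)) z)) * d q -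
          Coalgebra.counit (R := k) q * d₂ z := fun z => by
      induction z using TensorProduct.induction_on with
      | zero => simp
      | tmul x y =>
        rw [Algebra.TensorProduct.lift_tmul,
          show ((pR k A)⁻¹).ofConv x = (1 : A) ⊗ₜ[k] HopfAlgebraStruct.antipode (R := k) x from rfl,
          show (pL k A).ofConv y = y ⊗ₜ[k] (1 : A) from rfl, Algebra.TensorProduct.tmul_mul_tmul, one_mul, mul_one,
          Algebra.TensorProduct.tmul_mul_tmul, mul_one]
        have h2 : Coalgebra.counit (R := k) (HopfAlgebraStruct.antipode (R := k) x) = Coalgebra.counit (R := k) x :=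
          HopfAlgebra.counit_antipode _
        simp only [d₂, LinearMap.comp_apply, TensorProduct.map_tmul, LinearMap.mul'_apply, hd _ trivial _ trivial, hS,
          LinearMap.rTensor_tmul, TensorProduct.lid_tmul, map_smul, smul_eq_mul, h2]
        ring
      | add p q hp hq => simp only [map_add, add_mul, hp, hq]; ring
    rw [AlgHom.convMul_apply, key, Coalgebra.rTensor_counit_comul, TensorProduct.lid_tmul, one_smul]
  have h3 : conjHom k A a = Algebra.TensorProduct.lift X.ofConv (pR k A).ofConv (fun _ _ => .all _ _)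
      (Coalgebra.comul (R := k) a) := AlgHom.convMul_apply X (pR k A) a
  have key : ∀ z : A ⊗[k] A, d₂ (Algebra.TensorProduct.lift X.ofConv (pR k A).ofConv (fun _ _ => .all _ _) z) =
      d₂ z - d₂ (Coalgebra.comul (R := k) (TensorProduct.rid k A (LinearMap.lTensor A (Coalgebra.counit (R := k)) z))) :=
    fun z => by
    induction z using TensorProduct.induction_on with
    | zero => simp
    | tmul p q =>
      rw [Algebra.TensorProduct.lift_tmul, show (pR k A).ofConv q = (1 : A) ⊗ₜ[k] q from rfl, hX]
      simp [d₂]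
    | add p q hp hq => simp only [map_add, hp, hq]; ring
  rw [opD_apply, hL, h3, key, Coalgebra.lTensor_counit_comul, TensorProduct.rid_tmul, one_smul, sub_self]

namespace ConjData

variable (P : ConjData k A)

/-- The image group is smooth. -/
theorem smooth_S [Algebra.Smooth k A] : Smooth (sp k P.S).hom := by
  letI := GrpSchLib.SubHopf.hopf P.S P.isHopf
  haveI := P.finiteType
  let q : sp k A ⟶ sp k P.S := spMap P.S.val
  haveI : Flat q.left := (HasRingHomProperty.Spec_iff (P := @Flat)).mpr
    (GrpSchLib.HopfFlat.flat P.incl Subtype.val_injective)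
  haveI : Surjective q.left := ⟨GrpSchLib.HopfFlat.surjective_comap P.incl Subtype.val_injective⟩
  haveI : LocallyOfFiniteType (sp k P.S).hom :=
    (HasRingHomProperty.Spec_iff (P := @LocallyOfFiniteType)).mpr (RingHom.finiteType_algebraMap.mpr inferInstance)
  haveI : Smooth (q.left ≫ (sp k P.S).hom) := by rw [Over.w q]; exact smooth_sp A
  exact GrpSchLib.smooth_of_flat_surjective q.left (sp k P.S).hom

theorem algebraSmooth_S [Algebra.Smooth k A] : Algebra.Smooth k P.S :=
  RingHom.smooth_algebraMap.mp ((HasRingHomProperty.Spec_iff (P := @Smooth)).mp P.smooth_S)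

theorem conjIn_top {B : Type u} [CommRing B] [HopfAlgebra k B] : ConjIn (⊤ : Subalgebra k B) := fun a => by
  have hs : Function.Surjective (⊤ : Subalgebra k B).val.toLinearMap := fun b => ⟨⟨b, trivial⟩, rfl⟩
  exact LinearMap.lTensor_surjective B hs _

theorem aeval_restrict (d : WithConv (A →ₗ[k] k)) (R : Polynomial k) (b : P.S) :
    letI := GrpSchLib.SubHopf.hopf P.S P.isHopf
    (Polynomial.aeval (toConv (d.ofConv ∘ₗ P.S.val.toLinearMap) : WithConv (P.S →ₗ[k] k)) R).ofConv b =
      (Polynomial.aeval d R).ofConv (b : A) := by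
  letI := GrpSchLib.SubHopf.hopf P.S P.isHopf
  induction R using Polynomial.induction_on' with
  | add p q hp hq => simp only [map_add, WithConv.ofConv_add, LinearMap.add_apply, hp, hq]
  | monomial n c =>
    rw [Polynomial.aeval_monomial, Polynomial.aeval_monomial, ← Algebra.smul_def, ← Algebra.smul_def]
    simp only [WithConv.ofConv_smul, LinearMap.smul_apply, P.res_pow]

theorem isDerOn_restrict {d : A →ₗ[k] k} (hd : IsDerOn P.S d) :
    letI := GrpSchLib.SubHopf.hopf P.S P.isHopf
    IsDerOn (⊤ : Subalgebra k P.S) (d ∘ₗ P.S.val.toLinearMap) := by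
  letI := GrpSchLib.SubHopf.hopf P.S P.isHopf
  exact fun a _ b _ => hd a a.2 b b.2

theorem isToral_restrict {d : WithConv (A →ₗ[k] k)} (ht : IsToral P.S d) :
    letI := GrpSchLib.SubHopf.hopf P.S P.isHopf
    IsToral (⊤ : Subalgebra k P.S) (toConv (d.ofConv ∘ₗ P.S.val.toLinearMap)) := by
  letI := GrpSchLib.SubHopf.hopf P.S P.isHopf
  rcases ht with h | ⟨R, hR, h⟩
  · exact Or.inl h
  · exact Or.inr ⟨R, hR, fun b _ => (P.aeval_restrict d _ b).trans (h b b.2)⟩

end ConjData

end Groth.Agent.Deform.TorusExist
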