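import Mathlib.RingTheory.Bialgebra.MonoidAlgebra
import Mathlib.FieldTheory.IsAlgClosed.Basic
import Mathlib.LinearAlgebra.LinearIndependent.Defs
import Mathlib.FieldTheory.LinearDisjoint
import Mathlib.RingTheory.RootsOfUnity.AlgebraicallyClosed
import Mathlib.GroupTheory.FiniteAbelian.Basic
import Mathlib.NumberTheory.LucasPrimality

/-!
# Torsion points of a torus are dense
-/

set_option autoImplicit false
set_option linter.style.haveILetI false

universe u

namespace Groth.Agent.Deform.TorusExist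

variable {K : Type u} [Field K] [IsAlgClosed K] {M : Type u} [CommGroup M]

theorem pow_ne_one_of_domain [IsDomain (MonoidAlgebra K M)] (g : M) (hg : g ≠ 1) (n : ℕ) (hn : n ≠ 0) : g ^ n ≠ 1 := by
  intro hx
  let s : MonoidAlgebra K M := MonoidAlgebra.single g 1
  have hs : s ^ n = 1 := by simp [s, MonoidAlgebra.single_pow, hx, MonoidAlgebra.one_def]
  have hint : IsIntegral K s := ⟨Polynomial.X ^ n - 1, Polynomial.monic_X_pow_sub_C 1 hn, by simp [hs]⟩
  obtain ⟨c, hc⟩ := minpoly.mem_range_of_degree_eq_one K s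
    (IsAlgClosed.degree_eq_one_of_irreducible K (minpoly.irreducible hint))
  rw [MonoidAlgebra.coe_algebraMap, Function.comp_apply] at hc
  have h1 := congrArg (fun f : MonoidAlgebra K M => f.coeff g) hc
  simp [s, Ne.symm hg] at h1

variable [Group.FG M]

theorem exists_separating (hfree : ∀ g : M, g ≠ 1 → ∀ n : ℕ, n ≠ 0 → g ^ n ≠ 1) (g : M) (hg : g ≠ 1) :
    ∃ (φ : M →* Kˣ) (N : ℕ), (N : K) ≠ 0 ∧ φ ^ N = 1 ∧ φ g ≠ 1 := by
  classical
  haveI : Module.Finite ℤ (Additive M) := Module.Finite.iff_addGroup_fg.mpr inferInstance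
  haveI : IsAddTorsionFree (Additive M) := ⟨fun n hn x y h => sub_eq_zero.mp (by
    have h' : (Additive.toMul (x - y)) ^ n = 1 := by
      have : n • (x - y) = 0 := by rw [nsmul_sub, sub_eq_zero]; exact h
      simpa using congrArg Additive.toMul this
    by_contra hne
    exact hfree _ (fun e => hne (Additive.toMul.injective e)) n hn h')⟩
  haveI : Module.Free ℤ (Additive M) := inferInstance
  let b := Module.Free.chooseBasis ℤ (Additive M)
  obtain ⟨i, hi⟩ : ∃ i, b.repr (Additive.ofMul g) i ≠ 0 := by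
    by_contra h
    push Not at h
    exact hg (Additive.ofMul.injective (b.repr.injective (Finsupp.ext fun i => by rw [h i]; exact (congrFun (congrArg DFunLike.coe (map_zero b.repr)) i).symm)))
  obtain ⟨ℓ, hℓ, hℓp⟩ := Nat.exists_infinite_primes ((b.repr (Additive.ofMul g) i).natAbs + ringChar K + 1)
  haveI := Fact.mk hℓp
  have hℓK : (ℓ : K) ≠ 0 := fun h => by
    have h2 := (CharP.cast_eq_zero_iff K (ringChar K) ℓ).mp h
    rcases (Nat.dvd_prime hℓp).mp h2 with h3 | h3
    · exact CharP.ringChar_ne_one h3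
    · omega
  haveI : NeZero (ℓ : K) := ⟨hℓK⟩
  obtain ⟨z, hz⟩ := HasEnoughRootsOfUnity.exists_primitiveRoot K ℓ
  obtain ⟨ζ, rfl⟩ := hz.isUnit hℓp.ne_zero
  have hζ : IsPrimitiveRoot ζ ℓ := IsPrimitiveRoot.coe_units_iff.mp hz
  let φ : M →* Kˣ := MonoidHom.mk' (fun m => ζ ^ b.repr (Additive.ofMul m) i) fun x y => by
    rw [ofMul_mul, map_add, Finsupp.add_apply, zpow_add]
  refine ⟨φ, ℓ, hℓK, MonoidHom.ext fun m => ?_, fun h => ?_⟩
  · show (ζ ^ b.repr (Additive.ofMul m) i) ^ ℓ = 1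
    rw [← zpow_natCast, ← zpow_mul, mul_comm, zpow_mul, zpow_natCast, hζ.pow_eq_one, one_zpow]
  · obtain ⟨c, hc⟩ := (hζ.zpow_eq_one_iff_dvd _).mp h
    have h2 := congrArg Int.natAbs hc
    rw [Int.natAbs_mul, Int.natAbs_natCast] at h2
    have h3 : c.natAbs ≠ 0 := fun h0 => hi (by rw [hc, Int.natAbs_eq_zero.mp h0, mul_zero])
    have h4 : ℓ ≤ (b.repr (Additive.ofMul g) i).natAbs := by
      rw [h2]; exact Nat.le_mul_of_pos_right _ (Nat.pos_of_ne_zero h3)
    omega

/-- A function killed by all torsion points vanishes. -/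
theorem eq_zero_of_torsion (hfree : ∀ g : M, g ≠ 1 → ∀ n : ℕ, n ≠ 0 → g ^ n ≠ 1) (f : MonoidAlgebra K M)
    (h : ∀ φ : M →* Kˣ, (∃ N : ℕ, (N : K) ≠ 0 ∧ φ ^ N = 1) →
      MonoidAlgebra.lift K K M ((Units.coeHom K).comp φ) f = 0) : f = 0 := by
  classical
  let U : Submonoid (M →* Kˣ) :=
    { carrier := {φ | ∃ N : ℕ, (N : K) ≠ 0 ∧ φ ^ N = 1}
      one_mem' := ⟨1, by simp, MonoidHom.ext fun m => by simp [MonoidHom.pow_apply]⟩
      mul_mem' := fun {φ ψ} ⟨N, hN, h1⟩ ⟨L, hL, h2⟩ => ⟨N * L, by rw [Nat.cast_mul]; exact mul_ne_zero hN hL, by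
        rw [mul_pow, pow_mul φ, h1, mul_comm N L, pow_mul ψ, h2]; exact MonoidHom.ext fun m => by simp [MonoidHom.pow_apply]⟩ }
  let χ : M → (U →* K) := fun m =>
    (Units.coeHom K).comp ((MonoidHom.eval m).comp U.subtype)
  have hχ : Function.Injective χ := fun m m' he => by
    by_contra hne
    obtain ⟨φ, N, hN, hφ, hg⟩ := exists_separating (K := K) hfree (m * m'⁻¹) (fun e => hne (mul_inv_eq_one.mp e))
    have h0 := DFunLike.congr_fun he (⟨φ, N, hN, hφ⟩ : U)
    have h1 : φ m = φ m' := Units.ext h0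
    exact hg (by rw [map_mul, map_inv, h1, mul_inv_cancel])
  have hli := (linearIndependent_monoidHom U K).comp χ hχ
  rw [linearIndependent_iff] at hli
  refine MonoidAlgebra.coeff_injective (hli f.coeff (funext fun u => ?_))
  refine Eq.trans ?_ (h u.1 u.2)
  rw [Finsupp.linearCombination_apply, Finsupp.sum, Finset.sum_apply, MonoidAlgebra.lift_apply, Finsupp.sum]
  rfl

end Groth.Agent.Deform.TorusExist
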