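import Groth.Agent.Deform.Borel.Tori
import Groth.Agent.Deform.Borel.UnipRad
import Groth.Agent.UnipCrit.Crit
import Groth.Agent.ComodLib.Unitriangular
import Groth.Agent.Deform.FrobDesc.Points

/-!
# Groups without tori are unipotent, and forms vanishing at the unit act nilpotently
-/

set_option autoImplicit false
set_option linter.style.haveILetI false
set_option linter.unusedSectionVars false
set_option maxHeartbeats 1000000

universe u

open CategoryTheory CategoryTheory.Limits MonoidalCategory CartesianMonoidalCategory MonObj AlgebraicGeometry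
open TensorProduct WithConv

attribute [local instance] CategoryTheory.Hom.monoid CategoryTheory.Hom.group

noncomputable section

namespace Groth.Agent.Deform.TorusExist

open GrpSchLib.AffineHopf (sp spMap)
open Chev (Pt)

theorem isUnipotent_of_noSubtorus {K : Type u} [Field K] [IsAlgClosed K] (C : Type u) [CommRing C] [HopfAlgebra K C]
    [IsDomain C] [Algebra.FiniteType K C] [Smooth (sp K C).hom] (h : Red.HasNoSubtorus K (sp K C)) :
    HopfRep.IsUnipotent K C := by
  haveI : IsAffine (sp K C).left := inferInstanceAs (IsAffine (Spec (CommRingCat.of C)))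
  haveI : ConnectedSpace (sp K C).left := inferInstanceAs (ConnectedSpace (PrimeSpectrum C))
  haveI := Borel.isNilpotent_pts_of_noSubtorus (sp K C) h
  let e1 : 𝟙_ (Over (Spec (CommRingCat.of K))) ≅ sp K K := Over.isoMk (Iso.refl _) (by
    show 𝟙 _ ≫ Spec.map (CommRingCat.ofHom (algebraMap K K)) = 𝟙 _
    rw [Category.id_comp, Algebra.algebraMap_self]
    exact Spec.map_id _)
  let Φ : WithConv (C →ₐ[K] K) →* Pt (sp K C) :=
    { toFun := fun u => e1.hom ≫ spMap u.ofConv
      map_one' := by
        rw [show spMap (1 : WithConv (C →ₐ[K] K)).ofConv = (1 : sp K K ⟶ sp K C) from map_one Spec.mapMulEquiv,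
          MonObj.comp_one]
      map_mul' := fun u v => by
        rw [show spMap (u * v).ofConv = spMap u.ofConv * spMap v.ofConv from map_mul Spec.mapMulEquiv u v,
          MonObj.comp_mul] }
  have hΦi : Function.Injective Φ := fun u v h =>
    WithConv.ext (GrpSchLib.AffineHopf.spMap_injective ((cancel_epi e1.hom).mp h))
  haveI : Group.IsSolvable (WithConv (C →ₐ[K] K)) :=
    Group.isSolvable_of_isSolvable_injective (f := Φ) hΦi
  have hT : HopfRep.IsTrigonalizable K C := S3266.result K C fun e he => IsIdempotentElem.iff_eq_zero_or_one.mp he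
  obtain ⟨M, _, r, ψ, -, hrs, hfg, hdom, ⟨J, hJi, hJψ, hJU⟩, -⟩ := Borel.exists_torus_hopf C hT
  haveI := hfg; haveI := hdom; haveI := hJi
  let i : sp K (MonoidAlgebra K M) ⟶ sp K C := spMap (r : C →ₐ[K] MonoidAlgebra K M)
  haveI : IsMonHom i := GrpSchLib.AffineHopf.isMonHom_spMap r
  haveI : IsClosedImmersion i.left := IsClosedImmersion.spec_of_surjective _ hrs
  haveI : Mono i := (Over.forget _).mono_of_mono_map (inferInstanceAs (Mono i.left))
  have hiso : IsIso (Spec.map (CommRingCat.ofHom (algebraMap K (MonoidAlgebra K M)))) :=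
    h (sp K (MonoidAlgebra K M)) i Borel.isTorus_sp
  haveI : IsIso (Spec.map (CommRingCat.ofHom (algebraMap K (MonoidAlgebra K M)))) := hiso
  haveI : IsIso (Spec.map (CommRingCat.ofHom (algebraMap K (MonoidAlgebra K M)))).appTop :=
    inferInstanceAs (IsIso ((Spec.map (CommRingCat.ofHom (algebraMap K (MonoidAlgebra K M)))).app ⊤))
  haveI : IsIso (CommRingCat.ofHom (algebraMap K (MonoidAlgebra K M))) := by
    haveI : IsIso ((Scheme.ΓSpecIso (CommRingCat.of K)).hom ≫ CommRingCat.ofHom (algebraMap K (MonoidAlgebra K M))) := by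
      rw [← Scheme.ΓSpecIso_naturality]; infer_instance
    exact IsIso.of_isIso_comp_left (Scheme.ΓSpecIso (CommRingCat.of K)).hom _
  have hbij : Function.Bijective (algebraMap K (MonoidAlgebra K M)) :=
    ConcreteCategory.bijective_of_isIso (CommRingCat.ofHom (algebraMap K (MonoidAlgebra K M)))
  have hJ : J = ⊥ := by
    rw [hJψ, eq_bot_iff]
    refine Ideal.map_le_iff_le_comap.mpr fun x hx => ?_
    obtain ⟨c, rfl⟩ := hbij.2 x
    rw [RingHom.mem_ker, AlgHom.commutes, Algebra.algebraMap_self_apply] at hx
    simp [hx]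
  have hb : Function.Bijective (Bialgebra.Quotient.mkBialgHom J : C →ₐc[K] C ⧸ J) :=
    ⟨(RingHom.injective_iff_ker_eq_bot (Ideal.Quotient.mk J)).mpr (by rw [Ideal.mk_ker, hJ]),
      Ideal.Quotient.mk_surjective⟩
  let e := BialgEquiv.ofBijective (Bialgebra.Quotient.mkBialgHom J : C →ₐc[K] C ⧸ J) hb
  exact UnipCrit.isUnipotent_of_surjective (e.symm : C ⧸ J →ₐc[K] C) e.symm.surjective hJU

theorem pow_uniLevel {k : Type u} [Field k] {C : Type u} [CommRing C] [Bialgebra k C] (φ : WithConv (C →ₗ[k] k))
    (h1 : φ (1 : C) = 0) (r : ℕ) : ∀ a ∈ ComodLib.uniLevel k C r, (φ ^ (r + 1)) a = 0 := by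
  induction r using Nat.strong_induction_on with
  | _ r ih =>
    intro a ha
    cases r with
    | zero =>
      rw [ComodLib.uniLevel_zero] at ha
      obtain ⟨c, rfl⟩ := Submodule.mem_span_singleton.mp ha
      rw [zero_add, pow_one, map_smul, h1, smul_zero]
    | succ r =>
      rw [pow_succ' φ, LinearMap.convMul_apply]
      have hd := ComodLib.map_comul_uniLevel (r + 1) (Submodule.mem_map_of_mem ha)
      have hle : (⨆ i ∈ Finset.range (r + 1 + 1), LinearMap.range (TensorProduct.mapIncl (ComodLib.uniLevel k C i) (ComodLib.uniLevel k C (r + 1 - i)))) ≤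
          LinearMap.ker (LinearMap.mul' k k ∘ₗ TensorProduct.map φ.ofConv (φ ^ (r + 1)).ofConv) := by
        refine iSup₂_le fun i hi => ?_
        rintro _ ⟨z, rfl⟩
        induction z using TensorProduct.induction_on with
        | zero => simp
        | add p q hp hq => rw [map_add]; exact Submodule.add_mem _ hp hq
        | tmul p q =>
          rw [LinearMap.mem_ker]
          show φ.ofConv p * (φ ^ (r + 1)).ofConv q = 0
          cases i with
          | zero =>
            have hp : (p : C) ∈ Submodule.span k {(1 : C)} := (ComodLib.uniLevel_zero (k := k) (A := C)).le p.2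
            obtain ⟨c, hc⟩ := Submodule.mem_span_singleton.mp hp
            rw [← hc, map_smul, h1, smul_zero, zero_mul]
          | succ i =>
            rw [Finset.mem_range] at hi
            have hq : (q : C) ∈ ComodLib.uniLevel k C r := ComodLib.uniLevel_mono (by omega) q.2
            rw [ih r (by omega) q hq, mul_zero]
      exact LinearMap.mem_ker.mp (hle hd)

theorem isNilpotent_mat {k : Type u} [Field k] {C : Type u} [CommRing C] [HopfAlgebra k C] (hU : HopfRep.IsUnipotent k C)
    {n : ℕ} {M : Fin n → Fin n → C} (hM : ComodLib.IsComodMatrix k M) (φ : WithConv (C →ₗ[k] k)) (h1 : φ (1 : C) = 0) :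
    IsNilpotent (Matrix.of fun i j => φ (M i j)) := by
  classical
  have hpow : ∀ m : ℕ, (Matrix.of fun i j => φ (M i j)) ^ m = Matrix.of fun i j => (φ ^ m) (M i j) := by
    intro m
    induction m with
    | zero =>
      ext i j
      rw [pow_zero, pow_zero, Matrix.of_apply, LinearMap.convOne_apply, hM.counit, Matrix.one_apply]
      split <;> simp
    | succ m ih =>
      ext i j
      rw [pow_succ, pow_succ, ih, Matrix.mul_apply, Matrix.of_apply, LinearMap.convMul_apply, hM.comul, map_sum, map_sum]
      rfl
  have hex : ∀ a : C, ∃ r, a ∈ ComodLib.uniLevel k C r := fun a =>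
    (Submodule.mem_iSup_of_directed _ (ComodLib.uniLevel_mono (k := k) (A := C)).directed_le).mp
      (ComodLib.iSup_uniLevel_eq_top hU ▸ Submodule.mem_top)
  choose r hr using hex
  let R := Finset.univ.sup fun p : Fin n × Fin n => r (M p.1 p.2)
  refine ⟨R + 1, ?_⟩
  rw [hpow]
  ext i j
  exact pow_uniLevel φ h1 R _ (ComodLib.uniLevel_mono (Finset.le_sup (f := fun p : Fin n × Fin n => r (M p.1 p.2)) (Finset.mem_univ (i, j))) (hr _))

end Groth.Agent.Deform.TorusExist
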