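import Groth.Agent.Deform.TorusExist.Fix
import Groth.Agent.Deform.TorusExist.Eta
import Groth.Agent.Deform.TorusExist.TorusPts
import Groth.Agent.Deform.TorusExist.Unip
import Groth.Agent.Deform.Luna.TorusImageField
import Groth.Agent.Deform.Luna.TorusImage
import Groth.Agent.Deform.Borel.FieldFibre
import Groth.Agent.Deform.TorusAlg
import Groth.Agent.GrpSchLib.LangGroup
import Groth.Agent.GrpSchLib.HomSplitLocal
import Mathlib.RingTheory.Ideal.Pure

/-!
# The fixed subgroup of a toral derivation contains a torus which is not central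
-/

set_option autoImplicit false
set_option linter.style.haveILetI false
set_option linter.unusedSectionVars false
set_option maxHeartbeats 4000000

universe u

open CategoryTheory CategoryTheory.Limits MonoidalCategory CartesianMonoidalCategory MonObj AlgebraicGeometry
open WithConv
open scoped TensorProduct

attribute [local instance] CategoryTheory.Hom.monoid CategoryTheory.Hom.group

noncomputable section

namespace Groth.Agent.Deform.TorusExist

open GrpSchLib.AffineHopf (sp spMap)
open FrobDesc (yK toPt down)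
open Chev (Pt pimg)

variable {k : Type u} [Field k] {K : Type u} [Field K] [IsAlgClosed K] [Algebra k K]

/-- The unit object is the spectrum of the base field. -/
theorem nonempty_unitIso (K : Type u) [Field K] : Nonempty (𝟙_ (Over (Spec (CommRingCat.of K))) ≅ sp K K) :=
  ⟨Over.isoMk (Iso.refl _) (by
    show 𝟙 _ ≫ Spec.map (CommRingCat.ofHom (algebraMap K K)) = 𝟙 _
    rw [Category.id_comp, Algebra.algebraMap_self]
    exact Spec.map_id _)⟩

/-- The rational point of an affine scheme given by an algebra map. -/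
def unitIso (K : Type u) [Field K] : 𝟙_ (Over (Spec (CommRingCat.of K))) ≅ sp K K := (nonempty_unitIso K).some

theorem unitIso_hom_left (K : Type u) [Field K] : (unitIso K).hom.left = 𝟙 (Spec (CommRingCat.of K)) := by
  have h : (unitIso K).hom.left ≫ Spec.map (CommRingCat.ofHom (algebraMap K K)) = 𝟙 _ := Over.w (unitIso K).hom
  rw [Algebra.algebraMap_self] at h
  exact (show (unitIso K).hom.left ≫ 𝟙 _ = 𝟙 _ from (congrArg ((unitIso K).hom.left ≫ ·) (Spec.map_id _)).symm.trans h)

/-- The comorphism of a torus mapped into an affine group over a subfield. -/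
theorem exists_comorphism {A : Type u} [CommRing A] [HopfAlgebra k A] (τ : Over (Spec (CommRingCat.of K))) [GrpObj τ]
    (hτ : Red.IsTorus τ) (v : τ ⟶ Red.bc (yK k K) (sp k A)) [IsMonHom v] :
    ∃ (M : Type u) (_ : CommGroup M) (f : A →ₐ[k] MonoidAlgebra K M), Group.FG M ∧
      (∀ g : M, g ≠ 1 → ∀ n : ℕ, n ≠ 0 → g ^ n ≠ 1) ∧
      ∃ U : WithConv (MonoidAlgebra K M →ₐ[K] K) →* Pt τ, Function.Surjective U ∧
        ∀ u, toPt A (U u ≫ v) = toConv ((u.ofConv.restrictScalars k).comp f) := by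
  obtain ⟨hTa, hTl, hTs, hTc⟩ := Deform.TorusBasic.props hτ
  haveI := hTa; haveI := hTs; haveI := hTc
  obtain ⟨M, _, hfg, ⟨eT⟩⟩ := Deform.exists_diag τ (Deform.isMultTypeFT_of_isTorus hτ)
  obtain ⟨B, _, _, _, _, eB, heB⟩ := GrpSchLib.Lang.exists_domain_hopf τ
  haveI := heB
  obtain ⟨eMB⟩ := Deform.nonempty_bialgEquiv (eT ≪≫ (Grp.mkIso' eB).symm)
  haveI : IsDomain (MonoidAlgebra K M) :=
    Function.Injective.isDomain ((eMB.symm : MonoidAlgebra K M →ₐc[K] B) : MonoidAlgebra K M →+* B) eMB.symm.injective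
  haveI := hfg
  let a : sp K (MonoidAlgebra K M) ≅ τ := (Grp.forget _).mapIso eT
  haveI : IsMonHom a.hom := eT.hom.hom.isMonHom_hom
  let m : sp K (MonoidAlgebra K M) ⟶ Red.bc (yK k K) (sp k A) := a.hom ≫ v
  let o : sp k (MonoidAlgebra K M) ⟶ sp k A := Over.homMk (m.left ≫ pullback.fst (sp k A).hom (yK k K)) (by
    show (m.left ≫ pullback.fst (sp k A).hom (yK k K)) ≫ (sp k A).hom = _
    rw [Category.assoc, pullback.condition, ← Category.assoc,
      show m.left ≫ pullback.snd (sp k A).hom (yK k K) = (sp K (MonoidAlgebra K M)).hom from Over.w m]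
    show Spec.map _ ≫ Spec.map _ = Spec.map _
    rw [← Spec.map_comp]
    refine congrArg Spec.map (CommRingCat.hom_ext (RingHom.ext fun c => ?_))
    exact (IsScalarTower.algebraMap_apply k K (MonoidAlgebra K M) c).symm)
  obtain ⟨f, hf⟩ := GrpSchLib.AffineHopf.exists_eq_spMap o
  let U : WithConv (MonoidAlgebra K M →ₐ[K] K) →* Pt τ :=
    { toFun := fun u => (unitIso K).hom ≫ spMap u.ofConv ≫ a.hom
      map_one' := by
        rw [show spMap (1 : WithConv (MonoidAlgebra K M →ₐ[K] K)).ofConv = (1 : sp K K ⟶ sp K (MonoidAlgebra K M)) from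
            map_one Spec.mapMulEquiv, MonObj.one_comp, MonObj.comp_one]
      map_mul' := fun u w => by
        rw [show spMap (u * w).ofConv = spMap u.ofConv * spMap w.ofConv from map_mul Spec.mapMulEquiv u w,
          MonObj.mul_comp, MonObj.comp_mul] }
  refine ⟨M, inferInstance, f, hfg, fun g hg n hn => pow_ne_one_of_domain (K := K) g hg n hn, U, fun x => ?_, fun u => ?_⟩
  · obtain ⟨w, hw⟩ := GrpSchLib.AffineHopf.exists_eq_spMap ((unitIso K).inv ≫ x ≫ a.inv)
    exact ⟨toConv w, by
      show (unitIso K).hom ≫ spMap w ≫ a.hom = x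
      rw [← hw]; simp⟩
  · apply WithConv.ofConv_injective
    apply GrpSchLib.AffineHopf.spMap_injective
    rw [← FrobDesc.down_eq_spMap, WithConv.ofConv_toConv, ← GrpSchLib.AffineHopf.spMap_comp, ← hf]
    refine Over.OverMorphism.ext ?_
    show (((unitIso K).hom.left ≫ (spMap u.ofConv).left ≫ a.hom.left) ≫ v.left) ≫
      pullback.fst (sp k A).hom (yK k K) = _
    rw [unitIso_hom_left]
    simp only [Category.id_comp, Category.assoc]
    rfl

theorem pow_toConv_lift {M : Type u} [CommGroup M] (φ : M →* Kˣ) (n : ℕ) :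
    (toConv (MonoidAlgebra.lift K K M ((Units.coeHom K).comp φ))) ^ n =
      toConv (MonoidAlgebra.lift K K M ((Units.coeHom K).comp (φ ^ n))) := by
  induction n with
  | zero =>
    refine WithConv.ofConv_injective (MonoidAlgebra.algHom_ext (fun m => ?_) (by ext))
    simp [AlgHom.convOne_def]
  | succ n ih =>
    refine WithConv.ofConv_injective (MonoidAlgebra.algHom_ext (fun m => ?_) (by ext))
    rw [pow_succ, ih, AlgHom.convMul_apply]
    simp [MonoidAlgebra.comul_single, pow_succ]

variable {A : Type u} [CommRing A] [HopfAlgebra k A]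

/-- Points which lift from the fixed subgroup of the coefficients are fixed. -/
theorem torus_fixed (P : ConjData k A) {d : A →ₗ[k] k} (hd : IsDerOn P.S d) (τ : Over (Spec (CommRingCat.of K)))
    [GrpObj τ] (hτ : Red.IsTorus τ) (v : τ ⟶ Red.bc (yK k K) (sp k A)) [IsMonHom v]
    (hpre : ∀ x : Pt τ, ∀ a ∈ P.S, moved d (toPt A (x ≫ v)) a = 0) :
    ∀ x : Pt τ, ∀ a ∈ imIdeal (opD d), (toPt A (x ≫ v)).ofConv a = 0 := by
  obtain ⟨M, _, f, hfg, hfree, U, hUs, hU⟩ := exists_comorphism τ hτ v
  haveI := hfg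
  have hpow : ∀ (u : WithConv (MonoidAlgebra K M →ₐ[K] K)) (n : ℕ),
      (toPt A (U u ≫ v)) ^ n = toPt A (U (u ^ n) ≫ v) := fun u n => by
    rw [← map_pow]
    refine congrArg _ ?_
    induction n with
    | zero => rw [pow_zero, pow_zero, map_one, MonObj.one_comp]
    | succ n ih => rw [pow_succ, pow_succ, map_mul, MonObj.mul_comp, ih]
  intro x a ha
  obtain ⟨u, rfl⟩ := hUs x
  have hfa : f a = 0 := eq_zero_of_torsion hfree (f a) fun φ ⟨N, hN, hφ⟩ => by
    let w : WithConv (MonoidAlgebra K M →ₐ[K] K) := toConv (MonoidAlgebra.lift K K M ((Units.coeHom K).comp φ))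
    have hw : w ^ N = 1 := by
      rw [pow_toConv_lift, hφ]
      refine WithConv.ofConv_injective (MonoidAlgebra.algHom_ext (fun m => ?_) (by ext))
      simp [AlgHom.convOne_def]
    have h0 := moved_eq_zero_of_torsion P hd (toPt A (U w ≫ v)) (hpre _) N hN (by
      rw [hpow, hw, map_one, MonObj.one_comp, map_one])
    have h1 := (moved_eq_zero_iff d _).mp h0 a ha
    rw [hU] at h1
    exact h1
  rw [hU, WithConv.ofConv_toConv, AlgHom.comp_apply, hfa, map_zero]

/-- Two algebra maps out of the coefficients agree as soon as they do on the matrix. -/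
theorem ConjData.ext_S (P : ConjData k A) {R : Type u} [CommRing R] [Algebra k R] (f g : A →ₐ[k] R)
    (h : ∀ i j, f (P.M i j) = g (P.M i j)) : ∀ a ∈ P.S, f a = g a := by
  have hN : ∀ φ : A →ₐ[k] R, P.mat (φ.comp (HopfAlgebra.antipodeAlgHom k A)).toLinearMap * P.mat φ.toLinearMap = 1 := by
    intro φ
    ext i j
    have h1 := congrArg φ (HopfAlgebra.mul_antipode_rTensor_comul_apply (R := k) (P.M i j))
    rw [P.comod.comul, map_sum, map_sum] at h1
    simp only [LinearMap.rTensor_tmul, LinearMap.mul'_apply, map_sum, map_mul, AlgHom.commutes, P.comod.counit] at h1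
    rw [Matrix.mul_apply, Matrix.one_apply]
    refine h1.trans ?_
    split <;> simp
  have hm : P.mat f.toLinearMap = P.mat g.toLinearMap := Matrix.ext fun i j => h i j
  have hS : P.mat (f.comp (HopfAlgebra.antipodeAlgHom k A)).toLinearMap =
      P.mat (g.comp (HopfAlgebra.antipodeAlgHom k A)).toLinearMap :=
    left_inv_eq_right_inv (hN f) (hm ▸ (mul_eq_one_comm.mp (hN g)))
  intro a ha
  induction ha using Algebra.adjoin_induction with
  | mem x hx =>
    rcases hx with ⟨⟨i, j⟩, rfl⟩ | ⟨⟨i, j⟩, rfl⟩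
    exacts [h i j, congrFun (congrFun hS i) j]
  | algebraMap r => rw [AlgHom.commutes, AlgHom.commutes]
  | add x y _ _ hx hy => rw [map_add, map_add, hx, hy]
  | mul x y _ _ hx hy => rw [map_mul, map_mul, hx, hy]

/-- A central point acts trivially on the coefficients. -/
theorem trivial_on_S [Algebra.Smooth k A] (P : ConjData k A) (t : WithConv (A →ₐ[k] K))
    (h : ∀ g : WithConv (A →ₐ[k] K), t * g = g * t) : ∀ a ∈ P.S, t.ofConv a = algebraMap k K (Coalgebra.counit (R := k) a) := by
  classical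
  haveI : _root_.IsReduced (K ⊗[k] A) := by
    haveI : Smooth (sp K (K ⊗[k] A)).hom := smooth_sp (k := K) (K ⊗[k] A)
    haveI : IsReduced (sp K (K ⊗[k] A)).left := GrpSchLib.isReduced_of_smooth_field (sp K (K ⊗[k] A)).hom
    exact (affine_isReduced_iff (CommRingCat.of (K ⊗[k] A))).mp ‹_›
  refine P.ext_S t.ofConv ((Algebra.ofId k K).comp (Bialgebra.counitAlgHom k A)) fun i j => ?_
  let c : Fin P.n → K := fun l => t.ofConv (P.M l j) - if l = j then 1 else 0
  have hz : ∑ l, c l ⊗ₜ[k] P.v l = 0 := Borel.eq_zero_of_forall_algHom (k := K) _ fun G => by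
    let g : WithConv (A →ₐ[k] K) :=
      toConv ((G.restrictScalars k).comp (Algebra.TensorProduct.includeRight : A →ₐ[k] K ⊗[k] A))
    letI : Group (WithConv (A →ₐ[k] K)) := MultTypeLib.algConvGroup
    have hG : ∀ (r : K) (a : A), G (r ⊗ₜ[k] a) = r * g.ofConv a := fun r a => by
      rw [show r ⊗ₜ[k] a = r • ((1 : K) ⊗ₜ[k] a) by rw [TensorProduct.smul_tmul', smul_eq_mul, _root_.mul_one], map_smul,
        smul_eq_mul]
      rfl
    let φ : A ⊗[k] A →ₐ[k] K := Algebra.TensorProduct.lift g.ofConv t.ofConv fun _ _ => .all _ _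
    have h1 : toConv (φ.comp (conjHom k A)) = g := by
      rw [map_conjHom, show φ.comp Algebra.TensorProduct.includeRight = t.ofConv from AlgHom.ext fun x => by simp [φ],
        show φ.comp Algebra.TensorProduct.includeLeft = g.ofConv from AlgHom.ext fun x => by simp [φ]]
      show t⁻¹ * g * t = g
      rw [_root_.mul_assoc, ← h g, inv_mul_cancel_left]
    have h2 := DFunLike.congr_fun (congrArg WithConv.ofConv h1) (P.v j)
    rw [WithConv.ofConv_toConv, AlgHom.comp_apply, P.conj_v, map_sum] at h2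
    simp only [φ, Algebra.TensorProduct.lift_tmul] at h2
    simp only [map_sum, hG, c, sub_mul, Finset.sum_sub_distrib, ite_mul, _root_.one_mul, zero_mul, Finset.sum_ite_eq',
      Finset.mem_univ, if_true]
    rw [sub_eq_zero]
    refine Eq.trans ?_ h2
    exact Finset.sum_congr rfl fun l _ => mul_comm _ _
  obtain ⟨l, hl⟩ : ∃ l : A →ₗ[k] k, ∀ m, l (P.v m) = if m = i then 1 else 0 := by
    obtain ⟨l, hl⟩ := LinearMap.exists_extend
      ((Finsupp.lapply i).comp (Module.Basis.span P.li).repr.toLinearMap : Submodule.span k (Set.range P.v) →ₗ[k] k)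
    refine ⟨l, fun m => ?_⟩
    have h3 := LinearMap.congr_fun hl (Module.Basis.span P.li m)
    simp only [LinearMap.comp_apply, Submodule.subtype_apply, LinearEquiv.coe_coe, Module.Basis.repr_self,
      Finsupp.lapply_apply, Finsupp.single_apply] at h3
    rw [Module.Basis.span_apply] at h3
    exact h3
  have h4 := congrArg (fun z => TensorProduct.rid k K (LinearMap.lTensor K l z)) hz
  simp [hl, c] at h4
  rw [sub_eq_zero] at h4
  show t.ofConv (P.M i j) = algebraMap k K (Coalgebra.counit (R := k) (P.M i j))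
  rw [h4, P.comod.counit]
  split <;> simp

set_option maxHeartbeats 8000000 in
/-- **The fixed subgroup of a toral derivation has a torus which is not central.** -/
theorem key [IsDomain A] [Algebra.Smooth k A] (P : ConjData k A) (d : WithConv (A →ₗ[k] k))
    (hd : IsDerOn P.S d.ofConv) (ht : IsToral P.S d) (hn : ¬ IsNilpotent (P.mat d.ofConv))
    (hcent : ∀ (τ : Over (Spec (CommRingCat.of K))) [GrpObj τ] (v : τ ⟶ Red.bc (yK k K) (sp k A)) [IsMonHom v],
      Red.IsTorus τ → (∀ x : Pt τ, ∀ a ∈ imIdeal (opD d.ofConv), (toPt A (x ≫ v)).ofConv a = 0) →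
        ∀ (x : Pt τ) (g : Pt (Red.bc (yK k K) (sp k A))), (x ≫ v) * g = g * (x ≫ v)) : False := by
  letI := GrpSchLib.SubHopf.hopf P.S P.isHopf
  haveI := P.finiteType
  haveI : Algebra.Smooth k P.S := P.algebraSmooth_S
  let d' : WithConv (P.S →ₗ[k] k) := toConv (d.ofConv ∘ₗ P.S.val.toLinearMap)
  have hd' : IsDerOn (⊤ : Subalgebra k P.S) d'.ofConv := P.isDerOn_restrict hd
  let I := imIdeal (opD d'.ofConv)
  haveI : I.IsHopfIdeal k := isHopfIdeal_imIdeal ConjData.conjIn_top hd'
  haveI : Smooth (sp k (P.S ⧸ I)).hom := smooth_fix ConjData.conjIn_top hd' (P.isToral_restrict ht)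
  haveI : IsAffine (sp k (P.S ⧸ I)).left := inferInstanceAs (IsAffine (Spec (CommRingCat.of (P.S ⧸ I))))
  haveI : IsAffineHom (sp k (P.S ⧸ I)).hom := isAffineHom_of_isAffine _
  obtain ⟨N, iN, i₀, hi₀, hic, hio, hNs, hNq, hNc, -⟩ := Chev.exists_neutral (sp k (P.S ⧸ I))
  haveI := hi₀; haveI := hic; haveI := hio; haveI := hNs; haveI := hNq; haveI := hNc
  haveI : IsAffine N.left := isAffine_of_isAffineHom i₀.left
  obtain ⟨B, _, _, _, _, eB, heB⟩ := GrpSchLib.Lang.exists_domain_hopf N
  haveI := heB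
  haveI : IsIso eB.hom.left := ((Over.forget _).mapIso eB).isIso_hom
  obtain ⟨fQ, hfQ⟩ := GrpSchLib.AffineHopf.exists_bialgHom (eB.hom ≫ i₀)
  haveI : IsClosedImmersion (spMap (fQ : P.S ⧸ I →ₐ[k] B)).left := by
    rw [← hfQ]; exact inferInstanceAs (IsClosedImmersion (eB.hom.left ≫ i₀.left))
  haveI : IsOpenImmersion (spMap (fQ : P.S ⧸ I →ₐ[k] B)).left := by
    rw [← hfQ]; exact inferInstanceAs (IsOpenImmersion (eB.hom.left ≫ i₀.left))
  have hfs : Function.Surjective fQ :=
    GrpSchLib.AffineHopf.surjective_of_isClosedImmersion (fQ : P.S ⧸ I →ₐ[k] B) inferInstance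
  let fB : P.S →ₐc[k] B := fQ.comp (Bialgebra.Quotient.mkBialgHom I)
  have hfBs : Function.Surjective fB := hfs.comp Ideal.Quotient.mk_surjective
  haveI : IsAffine (sp k B).left := inferInstanceAs (IsAffine (Spec (CommRingCat.of B)))
  haveI : Smooth (sp k B).hom := by
    haveI : Smooth (eB.hom.left ≫ N.hom) := MorphismProperty.comp_mem _ _ _ inferInstance ‹Smooth N.hom›
    rwa [Over.w eB.hom] at this
  haveI : ConnectedSpace (sp k B).left := inferInstanceAs (ConnectedSpace (PrimeSpectrum B))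
  haveI : IsAffine (sp k A).left := inferInstanceAs (IsAffine (Spec (CommRingCat.of A)))
  haveI : Smooth (sp k A).hom := smooth_sp A
  haveI : ConnectedSpace (sp k A).left := inferInstanceAs (ConnectedSpace (PrimeSpectrum A))
  haveI : IsAffine (sp k P.S).left := inferInstanceAs (IsAffine (Spec (CommRingCat.of P.S)))
  haveI : Smooth (sp k P.S).hom := P.smooth_S
  obtain ⟨hAa, hAs, hAc⟩ := Borel.bc_props (yK k K) (sp k A)
  haveI := hAa; haveI := hAs; haveI := hAc
  obtain ⟨hBa, hBs, hBc⟩ := Borel.bc_props (yK k K) (sp k B)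
  haveI := hBa; haveI := hBs; haveI := hBc
  haveI : IsAffineHom (Red.bc (yK k K) (sp k A)).hom := isAffineHom_of_isAffine _
  haveI : IsAffineHom (Red.bc (yK k K) (sp k B)).hom := isAffineHom_of_isAffine _
  haveI : Smooth (Red.bc (yK k K) (sp k P.S)).hom :=
    inferInstanceAs (Smooth (CategoryTheory.Limits.pullback.snd (sp k P.S).hom (yK k K)))
  let F := Over.pullback (yK k K)
  let q₀ : sp k A ⟶ sp k P.S := spMap P.S.val
  haveI : IsMonHom q₀ := GrpSchLib.AffineHopf.isMonHom_spMap P.incl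
  haveI : Surjective q₀.left := ⟨GrpSchLib.HopfFlat.surjective_comap P.incl Subtype.val_injective⟩
  haveI : Surjective (F.map q₀).left :=
    MorphismProperty.of_isPullback (P := @Surjective) (GrpSchLib.HomSplitLocal.isPullback_map q₀ (yK k K)) inferInstance
  let j₀ : sp k B ⟶ sp k P.S := spMap (fB : P.S →ₐ[k] B)
  haveI : IsMonHom j₀ := GrpSchLib.AffineHopf.isMonHom_spMap fB
  haveI : IsClosedImmersion j₀.left := IsClosedImmersion.spec_of_surjective _ hfBs
  haveI : IsClosedImmersion (F.map j₀).left :=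
    MorphismProperty.of_isPullback (P := @IsClosedImmersion) (GrpSchLib.HomSplitLocal.isPullback_map j₀ (yK k K)) inferInstance
  haveI : Mono (F.map j₀) := (Over.forget _).mono_of_mono_map (inferInstanceAs (Mono (F.map j₀).left))
  obtain ⟨J, iJ, c, v, hc, hcc, hJs, hJq, hJc, hv, hvc, hvs, -⟩ :=
    Luna.exists_preimage_conn (F.map q₀) (F.map j₀)
  haveI := hc; haveI := hcc; haveI := hJs; haveI := hJq; haveI := hJc; haveI := hv; haveI := hvs
  obtain ⟨T, iT, i, hi⟩ := Borel.exists_univTorus J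
  obtain ⟨him, hicl, hT, -⟩ := id hi
  haveI := him; haveI := hicl
  haveI : Mono i := (Over.forget _).mono_of_mono_map (inferInstanceAs (Mono i.left))
  have hmax : AGF.IsMaxTorus i := ⟨him, inferInstance, hT, fun T' _ j _ _ f hT' hf => hi.maximal T' j f hT' hf⟩
  -- the torus lies in the preimage
  have hpre : ∀ x : Pt T, ∀ a ∈ P.S, moved d.ofConv (toPt A (x ≫ i ≫ c)) a = 0 := by
    intro x
    refine (moved_vanish_iff P _).mpr fun b hb => ?_
    have h1 := FrobDesc.toPt_map (k := k) (K := K) P.S.val (x ≫ i ≫ c)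
    rw [show (x ≫ i ≫ c) ≫ F.map (spMap P.S.val) = (x ≫ i ≫ v) ≫ F.map j₀ by
      simp only [Category.assoc]; rw [hvc], FrobDesc.toPt_map] at h1
    have h2 := DFunLike.congr_fun (congrArg WithConv.ofConv h1) b
    refine h2.symm.trans ?_
    show (toPt B (x ≫ i ≫ v)).ofConv (fB b) = 0
    rw [show fB b = 0 by
      show fQ (Ideal.Quotient.mk I b) = 0
      rw [Ideal.Quotient.eq_zero_iff_mem.mpr hb, map_zero], map_zero]
  have hcen := hcent T (i ≫ c) hT (torus_fixed P hd T hT (i ≫ c) hpre)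
  -- hence its image in the coefficient group is trivial
  have htriv : ∀ x : Pt T, x ≫ i ≫ v = 1 := by
    intro x
    rw [← cancel_mono (F.map j₀), MonObj.one_comp]
    refine FrobDesc.toPt_injective (k := k) (K := K) ?_
    rw [map_one, show (x ≫ i ≫ v) ≫ F.map j₀ = (x ≫ i ≫ c) ≫ F.map q₀ by
      simp only [Category.assoc]; rw [hvc], FrobDesc.toPt_map]
    have h := trivial_on_S P (toPt A (x ≫ i ≫ c)) fun g => by
      obtain ⟨g', rfl⟩ := FrobDesc.toPt_surjective (k := k) (K := K) g
      rw [← map_mul, ← map_mul, hcen x g']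
    refine WithConv.ofConv_injective (AlgHom.ext fun b => ?_)
    exact h b b.2
  -- so the neutral component of the fixed subgroup of the coefficients has no torus
  obtain ⟨Q, iQ, p, jQ, hp, hjQ, hjQc, hps, hpj, hQ⟩ := Luna.exists_image_torus hT (i ≫ v)
  haveI := hp; haveI := hjQ; haveI := hjQc; haveI := hps
  obtain ⟨-, hTl, -, -⟩ := Deform.TorusBasic.props hT
  obtain ⟨hQa, hQl, hQs, -⟩ := Deform.TorusBasic.props hQ
  haveI := hTl; haveI := hQl; haveI := hQs
  haveI : Mono jQ := (Over.forget _).mono_of_mono_map (inferInstanceAs (Mono jQ.left))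
  have hQ1 : ∀ y : Pt Q, y = 1 := fun y => by
    obtain ⟨x, rfl⟩ := Borel.exists_pt_over p y
    rw [← cancel_mono jQ, MonObj.one_comp, Category.assoc, hpj, htriv]
  have hQmax : AGF.IsMaxTorus jQ := Luna.isMaxTorus_image_gen v hmax jQ hQ p hpj
  have hno : Red.HasNoSubtorus K (Red.bc (yK k K) (sp k B)) := by
    intro τ _ jτ _ _ hτ
    obtain ⟨U, iU, iu, hu⟩ := Borel.exists_univTorus (Red.bc (yK k K) (sp k B))
    obtain ⟨hum, huc, hUt, huniv⟩ := id hu
    haveI := hum; haveI := huc
    haveI : Mono iu := (Over.forget _).mono_of_mono_map (inferInstanceAs (Mono iu.left))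
    have humax : AGF.IsMaxTorus iu := ⟨hum, inferInstance, hUt, fun T' _ j _ _ f hT' hf => hu.maximal T' j f hT' hf⟩
    obtain ⟨g, e, -, he⟩ := Borel.conj_of_max iu jQ humax hQmax
    obtain ⟨g', f', -, hf'⟩ := huniv τ jτ hτ
    obtain ⟨hτa, hτl, hτs, -⟩ := Deform.TorusBasic.props hτ
    haveI := hτa; haveI := hτl; haveI := hτs
    haveI : IsAffineHom τ.hom := isAffineHom_of_isAffine _
    haveI : IsReduced τ.left := GrpSchLib.isReduced_of_smooth_field τ.hom
    refine Borel.isTrivialGrp_of_pts fun x => ?_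
    have hU1 : ∀ y : Pt U, y ≫ iu = 1 := fun y => by
      have h1 : (y ≫ e.hom) ≫ jQ = AGF.conjBy g (y ≫ iu) := by
        rw [Category.assoc, he]
        simp only [AGF.conjBy, MonObj.comp_mul, GrpObj.comp_inv, ← Category.assoc, toUnit_unique (y ≫ toUnit U) (toUnit _)]
      rw [hQ1 (y ≫ e.hom), MonObj.one_comp] at h1
      have h2 : AGF.conjBy g (y ≫ iu) = (toUnit _ ≫ g) * (y ≫ iu) * (toUnit _ ≫ g)⁻¹ := rfl
      rw [h2, eq_comm, mul_inv_eq_one] at h1
      exact mul_eq_left.mp h1
    have h1 : AGF.conjBy g' (x ≫ jτ) = (1 : Pt (Red.bc (yK k K) (sp k B))) := by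
      rw [← hU1 (x ≫ f'), Category.assoc, hf']
      simp only [AGF.conjBy, MonObj.comp_mul, GrpObj.comp_inv, ← Category.assoc, toUnit_unique (x ≫ toUnit τ) (toUnit _)]
    have h2 : AGF.conjBy g' (x ≫ jτ) = (toUnit _ ≫ g') * (x ≫ jτ) * (toUnit _ ≫ g')⁻¹ := rfl
    rw [h2, mul_inv_eq_one] at h1
    rw [← cancel_mono jτ, MonObj.one_comp]
    exact mul_eq_left.mp h1
  -- hence it is unipotent, and the derivation is nilpotent
  obtain ⟨C, _, _, _, _, eC, heC⟩ := GrpSchLib.Lang.exists_domain_hopf (Red.bc (yK k K) (sp k B))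
  haveI := heC
  obtain ⟨g₁⟩ := GrpSchLib.AffineHopf.nonempty_bc_sp (R := k) K B
  obtain ⟨eCB⟩ := Deform.nonempty_bialgEquiv (g₁.symm ≪≫ (Grp.mkIso' eC).symm)
  haveI : IsDomain (K ⊗[k] B) :=
    Function.Injective.isDomain ((eCB.symm : K ⊗[k] B →ₐc[K] C) : K ⊗[k] B →+* C) eCB.symm.injective
  haveI : Algebra.FiniteType K (K ⊗[k] B) := inferInstance
  let b : sp K (K ⊗[k] B) ≅ Red.bc (yK k K) (sp k B) := (Grp.forget _).mapIso g₁.symm
  haveI : IsMonHom b.hom := g₁.inv.hom.isMonHom_hom
  haveI : IsIso b.hom.left := ((Over.forget _).mapIso b).isIso_hom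
  haveI : Smooth (sp K (K ⊗[k] B)).hom := by
    haveI : Smooth (b.hom.left ≫ (Red.bc (yK k K) (sp k B)).hom) :=
      MorphismProperty.comp_mem _ _ _ inferInstance hBs
    rwa [Over.w b.hom] at this
  have hU : HopfRep.IsUnipotent K (K ⊗[k] B) := isUnipotent_of_noSubtorus _ fun τ _ j _ _ hτ => hno τ (j ≫ b.hom) hτ
  -- the derivation factors through the neutral component
  have hdI : ∀ x ∈ I, d'.ofConv x = 0 := fun x hx => by
    induction hx using Submodule.span_induction with
    | mem z hz => obtain ⟨a, rfl⟩ := hz; exact apply_opD_self hd' a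
    | zero => exact map_zero _
    | add p q _ _ hp hq => rw [map_add, hp, hq, add_zero]
    | smul r p hp' hp =>
      have h0 : Coalgebra.counit (R := k) p = 0 := Submodule.IsCoideal.counit_eq_zero (I := I.restrictScalars k) hp'
      rw [smul_eq_mul, hd' r trivial p trivial, hp, h0, mul_zero, zero_mul, add_zero]
  let dQ : P.S ⧸ I →ₗ[k] k := (I.restrictScalars k).liftQ d'.ofConv hdI
  have hdQ : ∀ x y, dQ (x * y) = Coalgebra.counit (R := k) x * dQ y + Coalgebra.counit (R := k) y * dQ x := by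
    intro x y
    obtain ⟨x, rfl⟩ := Ideal.Quotient.mk_surjective x
    obtain ⟨y, rfl⟩ := Ideal.Quotient.mk_surjective y
    exact hd' x trivial y trivial
  have hker : ∀ x, fQ x = 0 → dQ x = 0 := by
    intro x hx
    have hfl : (fQ : P.S ⧸ I →ₐ[k] B).toRingHom.Flat :=
      (HasRingHomProperty.Spec_iff (P := @Flat) (φ := CommRingCat.ofHom (fQ : P.S ⧸ I →ₐ[k] B).toRingHom)).mp
        (inferInstance : Flat (spMap (fQ : P.S ⧸ I →ₐ[k] B)).left)
    let R := P.S ⧸ I
    let κ : Ideal R := RingHom.ker (fQ : R →ₐ[k] B).toRingHom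
    letI : Algebra R B := (fQ : R →ₐ[k] B).toRingHom.toAlgebra
    haveI : Module.Flat R B := hfl
    let e : (R ⧸ κ) ≃ₐ[R] B := Ideal.quotientKerAlgEquivOfSurjective (f := Algebra.ofId R B) hfs
    haveI : κ.Pure := Module.Flat.of_linearEquiv e.toLinearEquiv
    have hx' : x ∈ κ * κ := by rw [(Ideal.isIdempotentElem_of_pure κ).eq]; exact hx
    have hε : ∀ z ∈ κ, Coalgebra.counit (R := k) z = 0 := fun z hz => by
      rw [← CoalgHomClass.counit_comp_apply fQ z, show fQ z = 0 from hz, map_zero]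
    induction hx' using Submodule.mul_induction_on' with
    | mem_mul_mem p hp q hq => rw [hdQ, hε p hp, hε q hq, zero_mul, zero_mul, add_zero]
    | add p _ q _ hp hq =>
      rw [map_add, hp (by exact κ.mul_le_left ‹_›), hq (by exact κ.mul_le_left ‹_›), add_zero]
  obtain ⟨dB, hdB⟩ : ∃ dB : B →ₗ[k] k, ∀ x, dB (fQ x) = dQ x := by
    obtain ⟨s, hs⟩ := (fQ : P.S ⧸ I →ₐ[k] B).toLinearMap.exists_rightInverse_of_surjective
      (LinearMap.range_eq_top.mpr hfs)
    refine ⟨dQ ∘ₗ s, fun x => sub_eq_zero.mp ?_⟩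
    rw [LinearMap.comp_apply, ← map_sub]
    refine hker _ ?_
    rw [map_sub, sub_eq_zero]
    exact LinearMap.congr_fun hs (fQ x)
  have hdM : ∀ i j, dB (fB ⟨_, P.M_mem i j⟩) = d.ofConv (P.M i j) := fun i j => hdB _
  have hdB1 : dB 1 = 0 := by
    rw [← map_one fQ, hdB, ← map_one (Ideal.Quotient.mk I)]
    exact hd'.one
  let m : Fin P.n → Fin P.n → K ⊗[k] B := fun i j => (1 : K) ⊗ₜ[k] fB ⟨_, P.M_mem i j⟩
  have hm : ComodLib.IsComodMatrix K m := by
    have hSm : ComodLib.IsComodMatrix k (fun i j => (⟨_, P.M_mem i j⟩ : P.S)) := by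
      constructor
      · intro i j
        apply GrpSchLib.SubHopf.map_val_injective P.S.val P.S.val Subtype.val_injective Subtype.val_injective
        refine (GrpSchLib.SubHopf.map_comulRes P.S P.isHopf ⟨_, P.M_mem i j⟩).trans ?_
        rw [map_sum]
        exact P.comod.comul i j
      · exact fun i j => P.comod.counit i j
    constructor
    · intro i j
      have h1 := congrArg (TensorProduct.map (fB : P.S →ₐ[k] B).toLinearMap (fB : P.S →ₐ[k] B).toLinearMap) (hSm.comul i j)
      have h2 : Coalgebra.comul (R := k) (fB ⟨_, P.M_mem i j⟩) = ∑ l, fB ⟨_, P.M_mem i l⟩ ⊗ₜ[k] fB ⟨_, P.M_mem l j⟩ := by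
        rw [← CoalgHomClass.map_comp_comul_apply fB]
        refine h1.trans ?_
        rw [map_sum]
        rfl
      show Coalgebra.comul (R := K) ((1 : K) ⊗ₜ[k] fB ⟨_, P.M_mem i j⟩) = _
      rw [TensorProduct.comul_tmul, h2]
      simp [TensorProduct.tmul_sum, m]
    · intro i j
      show Coalgebra.counit (R := K) ((1 : K) ⊗ₜ[k] fB ⟨_, P.M_mem i j⟩) = _
      rw [TensorProduct.counit_tmul, CoalgHomClass.counit_comp_apply fB, hSm.counit]
      split <;> simp
  let φ : WithConv (K ⊗[k] B →ₗ[K] K) := toConv (LinearMap.liftBaseChange K ((Algebra.linearMap k K) ∘ₗ dB))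
  obtain ⟨r, hr⟩ := isNilpotent_mat hU hm φ (by
    show LinearMap.liftBaseChange K _ ((1 : K) ⊗ₜ[k] (1 : B)) = 0
    simp [hdB1])
  refine hn ⟨r, Matrix.map_injective (algebraMap k K).injective ?_⟩
  show ((algebraMap k K).mapMatrix) (P.mat d.ofConv ^ r) = ((algebraMap k K).mapMatrix) 0
  rw [map_pow, map_zero]
  refine Eq.trans ?_ hr
  congr 1
  ext i j
  simp [φ, m, ConjData.mat, hdM]

end Groth.Agent.Deform.TorusExist
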