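import Groth.Agent.Deform.TorusExist.Main
import Groth.Agent.Deform.Chev.AnyField
import Groth.Agent.Deform.Luna.CentralPreimage
import Groth.Agent.Deform.FinSeq
import Groth.Agent.S8431

/-!
# Maximal tori of arbitrary smooth groups over a field
-/

set_option autoImplicit false
set_option linter.style.haveILetI false
set_option linter.unusedSectionVars false
set_option maxHeartbeats 4000000

universe u

open CategoryTheory CategoryTheory.Limits MonoidalCategory CartesianMonoidalCategory MonObj AlgebraicGeometry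

attribute [local instance] CategoryTheory.Hom.monoid CategoryTheory.Hom.group

noncomputable section

namespace Groth.Agent.Deform.TorusExist

open FrobDesc (yK)
open Chev (Pt pimg)

attribute [local instance] geomAlg

variable {k : Type u} [Field k]

/-- **A connected smooth group has a maximal torus.** -/
theorem exists_maxTorus_connected (G : Over (Spec (CommRingCat.of k))) [GrpObj G] [Smooth G.hom] [QuasiCompact G.hom]
    [ConnectedSpace G.left] :
    ∃ (T : Over (Spec (CommRingCat.of k))) (_ : GrpObj T) (i : T ⟶ G), Red.IsMaximalTorus i := by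
  obtain ⟨M, iM, κ, hκ, hκc, hMl, hMq, hMb, I, iI, p, hp, hI, hIl, hpf, hps, hker⟩ := AntiAffineParts.exists_ant G
  haveI := hκ; haveI := hκc; haveI := hMl; haveI := hMq; haveI := hp; haveI := hI; haveI := hIl
  haveI := hpf; haveI := hps
  have hMb' : Function.Bijective ((Scheme.ΓSpecIso (CommRingCat.of k)).inv ≫ M.hom.appTop).hom :=
    (GrpSchLib.AntiAffine.bijective_appTop_iff M.hom).mpr hMb
  haveI : IsAffineHom I.hom := isAffineHom_of_isAffine _
  haveI : Smooth I.hom := GrpSchLib.smooth_of_quotient p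
  haveI : ConnectedSpace I.left := p.left.surjective.connectedSpace p.left.continuous
  obtain ⟨TI, iTI, j, hj⟩ := exists_maxTorus_affine I
  obtain ⟨hjm, hjmo, hTI, -⟩ := id hj
  haveI := hjm; haveI := hjmo
  obtain ⟨hTIa, hTIl, hTIs, -⟩ := Deform.TorusBasic.props hTI
  haveI := hTIa; haveI := hTIl; haveI := hTIs
  haveI : IsAffineHom TI.hom := isAffineHom_of_isAffine _
  haveI : IsClosedImmersion j.left := Borel.isClosedImmersion_of_mono j
  obtain ⟨iP, ha, hb⟩ := Luna.exists_grp_pullback p j
  letI := iP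
  let P := pullback p j
  let a : P ⟶ G := pullback.fst p j
  let b : P ⟶ TI := pullback.snd p j
  haveI : IsMonHom a := ha
  haveI : IsMonHom b := hb
  have sq : IsPullback a b p j := IsPullback.of_hasPullback p j
  have sqS : IsPullback a.left b.left p.left j.left := sq.map (Over.forget _)
  haveI : IsClosedImmersion a.left := MorphismProperty.of_isPullback (P := @IsClosedImmersion) sqS.flip inferInstance
  haveI : Surjective b.left := MorphismProperty.of_isPullback (P := @Surjective) sqS inferInstance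
  haveI : Flat b.left := MorphismProperty.of_isPullback (P := @Flat) sqS inferInstance
  haveI : LocallyOfFiniteType P.hom := by rw [← Over.w a]; infer_instance
  haveI : QuasiCompact P.hom := by rw [← Over.w a]; infer_instance
  haveI : IsLocallyNoetherian TI.left := LocallyOfFiniteType.isLocallyNoetherian TI.hom
  haveI : LocallyOfFiniteType b.left := by
    haveI : LocallyOfFiniteType (b.left ≫ TI.hom) := by rw [Over.w b]; infer_instance
    exact locallyOfFiniteType_of_comp b.left TI.hom
  haveI : LocallyOfFinitePresentation b.left := inferInstance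
  haveI : Mono a := (Over.forget _).mono_of_mono_map (inferInstanceAs (Mono a.left))
  haveI : Mono κ := (Over.forget _).mono_of_mono_map (inferInstanceAs (Mono κ.left))
  -- the preimage of the torus is commutative
  have hκp : κ ≫ p = 1 := hker.w.trans Hom.one_def.symm
  let l : M ⟶ P := pullback.lift κ 1 (by rw [hκp, MonObj.one_comp])
  have hla : l ≫ a = κ := pullback.lift_fst _ _ _
  have hlb : l ≫ b = 1 := pullback.lift_snd _ _ _
  haveI : IsMonHom l := Deform.isMonHom_of_comp l a hla
  haveI : Mono l := mono_of_mono_fac hla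
  have hlk : AlgGrp.IsKernel l b := Chev.AnyField.isKernel_of l b hlb fun T f hf => by
    obtain ⟨g, hg⟩ := Chev.exists_lift_kernel κ p hker (f ≫ a) (by
      rw [Category.assoc, sq.w, ← Category.assoc, hf, MonObj.one_comp])
    exact ⟨g, by rw [← cancel_mono a, Category.assoc, hla, hg]⟩
  have hlQ : RedSub.IsQuotient l b := by
    refine ⟨inferInstance, inferInstance, inferInstance, ?_⟩
    have e : (P ◁ l) ≫ μ[P] = fst P M * (snd P M ≫ l) := by
      rw [Hom.mul_def]
      congr 1
    rw [e]
    exact Deform.FinSeq.isPullback_shear b l hlk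
  have hlc : ∀ (X : Over (Spec (CommRingCat.of k))) (x : X ⟶ M) (g : X ⟶ P), (x ≫ l) * g = g * (x ≫ l) := by
    intro X x g
    rw [← cancel_mono a, MonObj.mul_comp, MonObj.mul_comp, Category.assoc, hla]
    have h := S7996.result k M G hMb' κ X x X (𝟙 X) (g ≫ a)
    simpa only [Category.id_comp] using h
  have hcomm := S8431.result k P M l hlc TI b hlQ hTI
  haveI : IsCommMonObj P := Deform.Extension.isCommMonObj_of fun X x y => hcomm X x y
  -- its affine part
  obtain ⟨N, iN, ν, A, iA, q, hν, hνc, hNa, hq, -, -, hνk, hA⟩ := Chev.AnyField.exists_affine_normal G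
  haveI := hν; haveI := hνc; haveI := hNa; haveI := hq; haveI := hA
  obtain ⟨L, iL, c, hc, hcc, -, hck⟩ := GrpSchLib.exists_kernel (a ≫ q)
  haveI := hc; haveI := hcc
  haveI : Mono c := (Over.forget _).mono_of_mono_map (inferInstanceAs (Mono c.left))
  obtain ⟨n, hn⟩ := Chev.exists_lift_kernel ν q hνk (c ≫ a) (by
    rw [Category.assoc]; exact hck.w.trans Hom.one_def.symm)
  haveI : IsClosedImmersion (n.left ≫ ν.left) := by
    rw [← Over.comp_left, hn]; exact inferInstanceAs (IsClosedImmersion (c.left ≫ a.left))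
  haveI : IsClosedImmersion n.left := IsClosedImmersion.of_comp n.left ν.left
  haveI : IsAffine L.left := isAffine_of_isAffineHom n.left
  haveI : LocallyOfFiniteType L.hom := by rw [← Over.w c]; infer_instance
  haveI : QuasiCompact L.hom := by rw [← Over.w c]; infer_instance
  obtain ⟨Z, iZ, z, hz, hzm, hZ, -, hzu⟩ := S8393.result k L
  obtain ⟨T, iT, t, ht, -⟩ := S4148.result _ Z hZ
  obtain ⟨htm, htmo, hT, -⟩ := id ht
  haveI := hz; haveI := hzm; haveI := htm; haveI := htmo
  obtain ⟨-, hTl, hTs, -⟩ := Deform.TorusBasic.props hT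
  haveI := hTl; haveI := hTs
  let i : T ⟶ G := t ≫ z ≫ c ≫ a
  haveI : IsMonHom i := inferInstanceAs (IsMonHom (t ≫ z ≫ c ≫ a))
  haveI : Mono i := inferInstanceAs (Mono (t ≫ z ≫ c ≫ a))
  refine ⟨T, iT, i, (isMaximalTorus_iff i hT).mpr ?_⟩
  -- over the closure every torus is conjugate into it
  let F := Over.pullback (yK k (GK k))
  haveI : Smooth (Red.bc (yK k (GK k)) G).hom := inferInstanceAs (Smooth (pullback.snd G.hom (yK k (GK k))))
  haveI : QuasiCompact (Red.bc (yK k (GK k)) G).hom := inferInstanceAs (QuasiCompact (pullback.snd G.hom (yK k (GK k))))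
  haveI : LocallyOfFiniteType (Red.bc (yK k (GK k)) P).hom :=
    inferInstanceAs (LocallyOfFiniteType (pullback.snd P.hom (yK k (GK k))))
  haveI : LocallyOfFiniteType (Red.bc (yK k (GK k)) T).hom :=
    inferInstanceAs (LocallyOfFiniteType (pullback.snd T.hom (yK k (GK k))))
  haveI : IsProper (Red.bc (yK k (GK k)) A).hom := inferInstanceAs (IsProper (pullback.snd A.hom (yK k (GK k))))
  obtain ⟨hIa, hIs, hIc⟩ := Borel.bc_props (yK k (GK k)) I
  haveI := hIa; haveI := hIs; haveI := hIc
  haveI : IsAffineHom (Red.bc (yK k (GK k)) I).hom := isAffineHom_of_isAffine _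
  haveI : Surjective (F.map p).left :=
    MorphismProperty.of_isPullback (P := @Surjective) (GrpSchLib.HomSplitLocal.isPullback_map p (yK k (GK k)))
      inferInstance
  have hTK : Red.IsTorus (Red.bc (yK k (GK k)) T) := Deform.isTorus_bc _ hT
  haveI : QuasiCompact (Red.bc (yK k (GK k)) T).hom := by
    obtain ⟨hTa', -, -, -⟩ := Deform.TorusBasic.props hTK
    haveI := hTa'
    haveI : IsAffineHom (Red.bc (yK k (GK k)) T).hom := isAffineHom_of_isAffine _
    infer_instance
  haveI : IsClosedImmersion (F.map i).left := Borel.isClosedImmersion_of_mono (F.map i)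
  have huniv : Borel.IsUnivTorus (F.map i) := by
    refine ⟨inferInstance, inferInstance, hTK, fun T' _ f _ _ hT' => ?_⟩
    obtain ⟨hTa', hTl', hTs', hTc'⟩ := Deform.TorusBasic.props hT'
    haveI := hTa'; haveI := hTl'; haveI := hTs'; haveI := hTc'
    haveI : IsAffineHom T'.hom := isAffineHom_of_isAffine _
    obtain ⟨R, iR, pR, jR, hpR, hjR, hjRc, -, hpj, hR⟩ := Luna.exists_image_torus hT' (f ≫ F.map p)
    haveI := hpR; haveI := hjR; haveI := hjRc
    haveI : Mono jR := (Over.forget _).mono_of_mono_map (inferInstanceAs (Mono jR.left))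
    obtain ⟨U, iU, iu, hu⟩ := Borel.exists_univTorus (Red.bc (yK k (GK k)) I)
    obtain ⟨g₁, e, -, he⟩ := hu.conj_of_max (F.map j) (Deform.isTorus_bc _ hTI) ((isMaximalTorus_iff j hTI).mp hj)
    obtain ⟨g₂, r, -, hr⟩ := hu.2.2.2 R jR hR
    obtain ⟨g, hg⟩ := Borel.exists_pt_over (F.map p) (g₁⁻¹ * g₂)
    rw [← Borel.comp_conj] at he hr
    have h1 : (f ≫ Borel.conj g) ≫ F.map p = (pR ≫ r ≫ e.inv) ≫ F.map j := by
      have h2 : F.map j = e.hom ≫ iu ≫ Borel.conj g₁⁻¹ := by
        rw [reassoc_of% he, Borel.conj_right_inv, Category.comp_id]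
      rw [h2]
      simp only [Category.assoc, Iso.inv_hom_id_assoc]
      rw [reassoc_of% hr, Borel.conj_mul, reassoc_of% hpj, ← Category.assoc f, Borel.comp_conj, Borel.comp_conj]
      simp only [AGF.conjBy, MonObj.mul_comp, MonObj.comp_mul, GrpObj.inv_comp, GrpObj.comp_inv,
        ← Category.assoc, toUnit_unique (f ≫ toUnit _) (toUnit _)]
      rw [Category.assoc (toUnit T') g, hg, MonObj.comp_mul, GrpObj.comp_inv]
    let w : T' ⟶ F.obj P := (sq.map F).lift (f ≫ Borel.conj g) (pR ≫ r ≫ e.inv) h1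
    have hw : w ≫ F.map a = f ≫ Borel.conj g := (sq.map F).lift_fst _ _ _
    haveI : IsMonHom (F.map a) := inferInstance
    haveI : Mono (F.map a) := inferInstance
    haveI : IsMonHom w := Deform.isMonHom_of_comp w (F.map a) hw
    obtain ⟨w₂, hw₂m, hw₂⟩ := Borel.exists_lift_of_affine (F.map c) (F.map (a ≫ q))
      (Chev.SemiAbelian.isKernel_bc (yK k (GK k)) c (a ≫ q) hck) (show T' ⟶ Red.bc (yK k (GK k)) P from w)
    haveI := hw₂m
    haveI : IsCommMonObj (Red.bc (yK k (GK k)) P) := GrpSchLib.RankOne.isCommMonObj_bc _ P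
    obtain ⟨w₃, hw₃⟩ := hzu _ (yK k (GK k)) T' w₂ (Deform.isMultTypeFT_of_isTorus hT') fun X x h => by
      rw [← cancel_mono (F.map c), MonObj.mul_comp, MonObj.mul_comp]
      exact mul_comm _ _
    haveI : IsMonHom w₃ := Deform.isMonHom_of_comp w₃ (F.map z) hw₃
    haveI : Mono (f ≫ Borel.conj g) := inferInstance
    haveI : Mono w := mono_of_mono_fac hw
    haveI : Mono w₂ := mono_of_mono_fac hw₂
    haveI : Mono w₃ := mono_of_mono_fac hw₃
    obtain ⟨T'', iT'', t'', ht'', hu''⟩ := S4148.result _ (Red.bc (yK k (GK k)) Z) (GrpSchLib.MultTypeBC.isMultTypeFT_bc _ hZ)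
    obtain ⟨ht''m, ht''mo, hT'', -⟩ := id ht''
    haveI := ht''m; haveI := ht''mo
    obtain ⟨f₁, hf₁⟩ := hu'' T' w₃ hT'
    obtain ⟨u, hu₁⟩ := hu'' (Red.bc (yK k (GK k)) T) (F.map t) hTK
    haveI : IsIso u := (isMaximalTorus_iff t hT).mp ht T'' t'' u hT'' hu₁
    have hf : (f₁ ≫ inv u) ≫ F.map i = AGF.conjBy g f := by
      rw [← Borel.comp_conj, ← hw, show i = t ≫ z ≫ c ≫ a from rfl, F.map_comp, F.map_comp, F.map_comp,
        Category.assoc, ← reassoc_of% hu₁, IsIso.inv_hom_id_assoc, reassoc_of% hf₁, reassoc_of% hw₃, reassoc_of% hw₂]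
    refine ⟨g, f₁ ≫ inv u, ?_, hf⟩
    haveI : IsMonHom (AGF.conjBy g f) := by rw [← Borel.comp_conj]; infer_instance
    exact Deform.isMonHom_of_comp _ (F.map i) (i := AGF.conjBy g f) hf
  intro T' _ j' _ _ f hT' hf
  exact huniv.maximal T' j' f hT' hf

/-- **Every smooth group over a field has a maximal torus.** -/
theorem exists_maxTorus (G : Over (Spec (CommRingCat.of k))) [GrpObj G] [Smooth G.hom] [QuasiCompact G.hom] :
    ∃ (T : Over (Spec (CommRingCat.of k))) (_ : GrpObj T) (i : T ⟶ G), Red.IsMaximalTorus i := by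
  obtain ⟨G₀, iG₀, i₀, hi₀, hic, hio, hs, hq, hc, -⟩ := Chev.exists_neutral G
  haveI := hi₀; haveI := hic; haveI := hio; haveI := hs; haveI := hq; haveI := hc
  obtain ⟨T, iT, i, hi⟩ := exists_maxTorus_connected G₀
  obtain ⟨him, himo, hT, -⟩ := id hi
  haveI := him; haveI := himo
  haveI : Mono i₀ := (Over.forget _).mono_of_mono_map (inferInstanceAs (Mono i₀.left))
  refine ⟨T, iT, i ≫ i₀, (isMaximalTorus_iff _ hT).mpr fun T' _ j _ _ f hT' hf => ?_⟩
  let F := Over.pullback (yK k (GK k))
  obtain ⟨-, -, hTs', hTc'⟩ := Deform.TorusBasic.props hT'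
  haveI := hTs'; haveI := hTc'
  haveI : IsReduced T'.left := GrpSchLib.isReduced_of_smooth_field T'.hom
  haveI : IsClosedImmersion (F.map i₀).left :=
    MorphismProperty.of_isPullback (P := @IsClosedImmersion)
      (GrpSchLib.HomSplitLocal.isPullback_map i₀ (yK k (GK k))) inferInstance
  haveI : IsOpenImmersion (F.map i₀).left :=
    MorphismProperty.of_isPullback (P := @IsOpenImmersion)
      (GrpSchLib.HomSplitLocal.isPullback_map i₀ (yK k (GK k))) inferInstance
  obtain ⟨j', hj'⟩ := exists_lift_clopen (F.map i₀) j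
  haveI : IsMonHom j' := Deform.isMonHom_of_comp j' (F.map i₀) hj'
  haveI : Mono j' := mono_of_mono_fac hj'
  refine (isMaximalTorus_iff i hT).mp hi T' j' f hT' ?_
  rw [← cancel_mono (F.map i₀), Category.assoc, hj', hf, F.map_comp]

end Groth.Agent.Deform.TorusExist
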