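import Groth.Agent.Deform.TorusExist.Conj
import Groth.Agent.ComodLib.Antipode
import Groth.Agent.ComodLib.MatrixComod
import Groth.Agent.GrpSchLib.SubHopf
import Groth.Agent.GrpSchLib.HeightOnePoint

/-!
# The subalgebra of coefficients of conjugation
-/

set_option autoImplicit false
set_option linter.style.haveILetI false
set_option linter.unusedSectionVars false
set_option maxHeartbeats 1000000

universe u

open TensorProduct WithConv

noncomputable section

namespace Groth.Agent.Deform.TorusExist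

variable {k : Type u} [Field k] {A : Type u} [CommRing A] [HopfAlgebra k A]

variable (k A) in
/-- A finite conjugation-stable generating space with its matrix of coefficients. -/
structure ConjData where
  n : ℕ
  v : Fin n → A
  M : Fin n → Fin n → A
  li : LinearIndependent k v
  gen : Algebra.adjoin k (Set.range v) = ⊤
  conj_v : ∀ j, conjHom k A (v j) = ∑ i, v i ⊗ₜ[k] M i j
  comod : ComodLib.IsComodMatrix k M

theorem exists_conjData [Algebra.FiniteType k A] : Nonempty (ConjData k A) := by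
  classical
  obtain ⟨gens, hgens⟩ := (Algebra.FiniteType.out : (⊤ : Subalgebra k A).FG)
  letI cA := conjComod k A
  obtain ⟨U, hUf, hgU, hU⟩ := ComodLib.exists_finite_subcomod_le (k := k) (C := A) (V := A) gens.finite_toSet
  letI cU : HopfRep.Comod k A U := ComodSub.Comod.restr cA U hU
  let b := Module.finBasis k U
  refine ⟨⟨_, fun i => (b i : A), ComodLib.matrixOf b, ?_, ?_, fun j => ?_, ComodLib.isComodMatrix_matrixOf b⟩⟩
  · exact b.linearIndependent.map' U.subtype (Submodule.ker_subtype U)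
  · refine eq_top_iff.mpr ?_
    rw [← hgens]
    refine Algebra.adjoin_le fun a ha => ?_
    have h : a = ∑ i, b.repr (⟨a, hgU ha⟩ : U) i • (b i : A) := by
      have := congrArg Subtype.val (b.sum_repr (⟨a, hgU ha⟩ : U))
      simp only [Submodule.coe_sum, Submodule.coe_smul] at this
      exact this.symm
    rw [h]
    exact Subalgebra.sum_mem _ fun i _ => Subalgebra.smul_mem _ (Algebra.subset_adjoin (show (b i : A) ∈ Set.range fun i => (b i : A) from ⟨i, rfl⟩)) _
  · have h := ComodSub.restr_coact_coe cA U hU (b j)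
    rw [show HopfRep.Comod.coact (k := k) (A := A) (b j) = _ from ComodLib.coact_matrixOf b j, map_sum] at h
    exact h.symm.trans (Finset.sum_congr rfl fun i _ => rfl)

namespace ConjData

variable (P : ConjData k A)

/-- The subalgebra of coefficients. -/
def S : Subalgebra k A :=
  Algebra.adjoin k ((Set.range fun p : Fin P.n × Fin P.n => P.M p.1 p.2) ∪
    Set.range fun p : Fin P.n × Fin P.n => HopfAlgebraStruct.antipode (R := k) (P.M p.1 p.2))

theorem M_mem (i j : Fin P.n) : P.M i j ∈ P.S := Algebra.subset_adjoin (Or.inl ⟨(i, j), rfl⟩)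

theorem SM_mem (i j : Fin P.n) : HopfAlgebraStruct.antipode (R := k) (P.M i j) ∈ P.S :=
  Algebra.subset_adjoin (Or.inr ⟨(i, j), rfl⟩)

theorem fg : P.S.FG := Subalgebra.fg_def.mpr ⟨_, (Set.finite_range _).union (Set.finite_range _), rfl⟩

theorem finiteType : Algebra.FiniteType k P.S := (Subalgebra.fg_iff_finiteType _).mp P.fg

theorem isHopf : SGA3.IsHopfSubalgebra k A P.S := by
  constructor
  · intro b hb
    let R := (Algebra.TensorProduct.map P.S.val P.S.val).range.comap (Bialgebra.comulAlgHom k A)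
    have h : P.S ≤ R := by
      refine Algebra.adjoin_le ?_
      rintro x (⟨⟨i, j⟩, rfl⟩ | ⟨⟨i, j⟩, rfl⟩)
      · show Bialgebra.comulAlgHom k A (P.M i j) ∈ (Algebra.TensorProduct.map P.S.val P.S.val).range
        rw [Bialgebra.comulAlgHom_apply, P.comod.comul]
        exact Subalgebra.sum_mem _ fun l _ => ⟨⟨_, P.M_mem i l⟩ ⊗ₜ ⟨_, P.M_mem l j⟩, rfl⟩
      · show Bialgebra.comulAlgHom k A _ ∈ (Algebra.TensorProduct.map P.S.val P.S.val).range
        rw [Bialgebra.comulAlgHom_apply, ComodLib.comul_antipode, P.comod.comul, map_sum, map_sum]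
        exact Subalgebra.sum_mem _ fun l _ => ⟨⟨_, P.SM_mem l j⟩ ⊗ₜ ⟨_, P.SM_mem i l⟩, rfl⟩
    obtain ⟨z, hz⟩ := h hb
    exact ⟨z, hz⟩
  · intro b hb
    have h : P.S ≤ P.S.comap (HopfAlgebra.antipodeAlgHom k A) := by
      refine Algebra.adjoin_le ?_
      rintro x (⟨⟨i, j⟩, rfl⟩ | ⟨⟨i, j⟩, rfl⟩)
      · exact P.SM_mem i j
      · show HopfAlgebra.antipode k (HopfAlgebra.antipode k (P.M i j)) ∈ P.S
        rw [ComodLib.antipode_antipode_apply]
        exact P.M_mem i j
    exact h hb

theorem conjIn : ConjIn P.S := fun a => by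
  let R := (Algebra.TensorProduct.map (AlgHom.id k A) P.S.val).range.comap (conjHom k A)
  have h : (⊤ : Subalgebra k A) ≤ R := by
    rw [← P.gen]
    refine Algebra.adjoin_le ?_
    rintro x ⟨j, rfl⟩
    show conjHom k A (P.v j) ∈ (Algebra.TensorProduct.map (AlgHom.id k A) P.S.val).range
    rw [P.conj_v]
    exact Subalgebra.sum_mem _ fun i _ => ⟨P.v i ⊗ₜ ⟨_, P.M_mem i j⟩, rfl⟩
  obtain ⟨z, hz⟩ := h (Algebra.mem_top : a ∈ (⊤ : Subalgebra k A))
  exact ⟨z, hz⟩

/-- The matrix of a linear form. -/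
def mat {R : Type u} [CommRing R] [Algebra k R] (φ : A →ₗ[k] R) : Matrix (Fin P.n) (Fin P.n) R :=
  Matrix.of fun i j => φ (P.M i j)

theorem mat_mul {R : Type u} [CommRing R] [Algebra k R] (φ ψ : WithConv (A →ₗ[k] R)) :
    P.mat (φ * ψ).ofConv = P.mat φ.ofConv * P.mat ψ.ofConv := by
  ext i j
  show (φ * ψ).ofConv (P.M i j) = _
  rw [LinearMap.convMul_apply, P.comod.comul, map_sum, map_sum, Matrix.mul_apply]
  rfl

theorem mat_one {R : Type u} [CommRing R] [Algebra k R] :
    P.mat (1 : WithConv (A →ₗ[k] R)).ofConv = 1 := by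
  ext i j
  show (1 : WithConv (A →ₗ[k] R)).ofConv (P.M i j) = _
  rw [LinearMap.convOne_apply, P.comod.counit, Matrix.one_apply]
  split <;> simp

theorem mat_pow {R : Type u} [CommRing R] [Algebra k R] (φ : WithConv (A →ₗ[k] R)) (m : ℕ) :
    P.mat (φ ^ m).ofConv = P.mat φ.ofConv ^ m := by
  induction m with
  | zero => rw [pow_zero, pow_zero]; exact P.mat_one
  | succ m ih => rw [pow_succ, pow_succ, P.mat_mul, ih]

theorem mat_add {R : Type u} [CommRing R] [Algebra k R] (φ ψ : A →ₗ[k] R) :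
    P.mat (φ + ψ) = P.mat φ + P.mat ψ := rfl

theorem mat_smul {R : Type u} [CommRing R] [Algebra k R] (c : k) (φ : A →ₗ[k] R) :
    P.mat (c • φ) = c • P.mat φ := rfl

theorem opD_v (φ : A →ₗ[k] k) (j : Fin P.n) : opD φ (P.v j) = ∑ i, P.mat φ i j • P.v i := by
  rw [opD_apply, P.conj_v, map_sum, map_sum]
  rfl

theorem opD_eq_zero {φ : A →ₗ[k] k} (h : ∀ a, opD φ a = 0) : P.mat φ = 0 := by
  ext i j
  have h1 := h (P.v j)
  rw [P.opD_v] at h1
  exact Fintype.linearIndependent_iff.mp P.li _ h1 i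

/-- A derivation on the coefficients is determined by its matrix. -/
theorem eq_zero_of_mat {d : A →ₗ[k] k} (hd : IsDerOn P.S d) (h : P.mat d = 0) : ∀ a ∈ P.S, d a = 0 := by
  have hM : ∀ i j, d (P.M i j) = 0 := fun i j => congrFun (congrFun h i) j
  have hSM : ∀ i j, d (HopfAlgebraStruct.antipode (R := k) (P.M i j)) = 0 := by
    intro i j
    have h1 := HopfAlgebra.mul_antipode_rTensor_comul_apply (R := k) (P.M i j)
    rw [P.comod.comul, map_sum, map_sum] at h1
    have h2 := congrArg d h1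
    simp only [LinearMap.rTensor_tmul, LinearMap.mul'_apply, map_sum] at h2
    rw [Algebra.algebraMap_eq_smul_one, map_smul, hd.one, smul_zero] at h2
    rw [Finset.sum_eq_single j] at h2
    · rw [hd _ (P.SM_mem i j) _ (P.M_mem j j), hM, mul_zero, zero_add, P.comod.counit, if_pos rfl, one_mul] at h2
      exact h2
    · intro l _ hl
      rw [hd _ (P.SM_mem i l) _ (P.M_mem l j), hM, mul_zero, zero_add, P.comod.counit, if_neg hl, zero_mul]
    · exact fun h => absurd (Finset.mem_univ _) h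
  intro a ha
  induction ha using Algebra.adjoin_induction with
  | mem x hx =>
    rcases hx with ⟨⟨i, j⟩, rfl⟩ | ⟨⟨i, j⟩, rfl⟩
    exacts [hM i j, hSM i j]
  | algebraMap r => rw [Algebra.algebraMap_eq_smul_one, map_smul, hd.one, smul_zero]
  | add x y _ _ hx hy => rw [map_add, hx, hy, add_zero]
  | mul x y hx' hy' hx hy => rw [hd x hx' y hy', hx, hy, mul_zero, mul_zero, add_zero]

/-- The inclusion of the coefficients as a homomorphism of bialgebras. -/
def incl : letI := GrpSchLib.SubHopf.hopf P.S P.isHopf; P.S →ₐc[k] A :=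
  letI := GrpSchLib.SubHopf.hopf P.S P.isHopf
  BialgHom.ofAlgHom P.S.val rfl (AlgHom.ext fun b => GrpSchLib.SubHopf.map_comulRes P.S P.isHopf b)

theorem incl_apply (b : P.S) : letI := GrpSchLib.SubHopf.hopf P.S P.isHopf; P.incl b = (b : A) := rfl

theorem res_pow (φ : WithConv (A →ₗ[k] k)) (m : ℕ) (b : P.S) :
    letI := GrpSchLib.SubHopf.hopf P.S P.isHopf
    ((toConv (φ.ofConv ∘ₗ P.S.val.toLinearMap) : WithConv (P.S →ₗ[k] k)) ^ m).ofConv b = (φ ^ m).ofConv (b : A) := by
  letI := GrpSchLib.SubHopf.hopf P.S P.isHopf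
  let r : WithConv (A →ₗ[k] k) →* WithConv (P.S →ₗ[k] k) :=
    { toFun := fun x => toConv (x.ofConv ∘ₗ P.incl.toCoalgHom.toLinearMap)
      map_one' := by
        refine WithConv.ofConv_injective (LinearMap.ext fun c => ?_)
        show (1 : WithConv (A →ₗ[k] k)).ofConv (P.incl c) = (1 : WithConv (P.S →ₗ[k] k)).ofConv c
        rw [LinearMap.convOne_apply, LinearMap.convOne_apply]
        exact congrArg _ (CoalgHomClass.counit_comp_apply P.incl c)
      map_mul' := fun x y => WithConv.ofConv_injective (LinearMap.convMul_comp_coalgHom_distrib x y P.incl.toCoalgHom) }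
  exact (LinearMap.congr_fun (congrArg WithConv.ofConv (map_pow r φ m)) b).symm

theorem isDerOn_pow_char (p : ℕ) [Fact p.Prime] [CharP k p] {d : WithConv (A →ₗ[k] k)}
    (hd : IsDerOn P.S d.ofConv) : IsDerOn P.S (d ^ p).ofConv := by
  letI := GrpSchLib.SubHopf.hopf P.S P.isHopf
  intro a ha b hb
  have h := GrpSchLib.deriv_pow_char p
    (y := (toConv (d.ofConv ∘ₗ P.S.val.toLinearMap) : CartDual.D k P.S))
    (fun x y => hd x x.2 y y.2) ⟨a, ha⟩ ⟨b, hb⟩
  rw [P.res_pow, P.res_pow, P.res_pow] at h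
  exact h

theorem isDerOn_pow_iter (p : ℕ) [Fact p.Prime] [CharP k p] {d : WithConv (A →ₗ[k] k)}
    (hd : IsDerOn P.S d.ofConv) (r : ℕ) : IsDerOn P.S (d ^ p ^ r).ofConv := by
  induction r with
  | zero => simpa using hd
  | succ r ih => rw [pow_succ, pow_mul]; exact P.isDerOn_pow_char p ih

end ConjData

theorem IsDerOn.add {S : Subalgebra k A} {d e : A →ₗ[k] k} (hd : IsDerOn S d) (he : IsDerOn S e) :
    IsDerOn S (d + e) := fun a ha b hb => by
  simp only [LinearMap.add_apply, hd a ha b hb, he a ha b hb]; ring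

theorem IsDerOn.smul {S : Subalgebra k A} {d : A →ₗ[k] k} (hd : IsDerOn S d) (c : k) :
    IsDerOn S (c • d) := fun a ha b hb => by
  simp only [LinearMap.smul_apply, hd a ha b hb, smul_eq_mul]; ring

theorem IsDerOn.sum {S : Subalgebra k A} {ι : Type*} (s : Finset ι) {d : ι → A →ₗ[k] k}
    (hd : ∀ i ∈ s, IsDerOn S (d i)) : IsDerOn S (∑ i ∈ s, d i) :=
  Finset.sum_induction _ (IsDerOn S) (fun _ _ => IsDerOn.add) (fun a _ b _ => by simp) hd

end Groth.Agent.Deform.TorusExist
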