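import Groth.Agent.Deform.TorusExist.Consequences
import Groth.Agent.MultTypeLib.TorusFibre
import Groth.Agent.UnipMu.Criterion
import Groth.Agent.S7951
import Groth.Agent.Deform.MultUnipSplit

/-!
# Unipotent groups are those without tori, over any field
-/

set_option autoImplicit false
set_option linter.style.haveILetI false
set_option linter.unusedSectionVars false
set_option maxHeartbeats 800000

universe u

open CategoryTheory CategoryTheory.Limits MonoidalCategory CartesianMonoidalCategory MonObj AlgebraicGeometry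
open scoped TensorProduct

attribute [local instance] CategoryTheory.Hom.monoid CategoryTheory.Hom.group

noncomputable section

namespace Groth.Agent.Deform.TorusExist

open GrpSchLib.AffineHopf (sp spMap)
open FrobDesc (yK)

variable {k : Type u} [Field k]

/-- The character group of a split torus surjects onto every finite cyclic group. -/
theorem exists_surjective_zmod {M : Type u} [CommGroup M] [Group.FG M] [Nontrivial M]
    (hfree : ∀ g : M, g ≠ 1 → ∀ n : ℕ, n ≠ 0 → g ^ n ≠ 1) (n : ℕ) :
    ∃ f : M →* Multiplicative (ZMod n), Function.Surjective f := by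
  haveI : Module.Finite ℤ (Additive M) := Module.Finite.iff_addGroup_fg.mpr inferInstance
  haveI : IsAddTorsionFree (Additive M) := by
    refine ⟨fun m hm g g' h => ?_⟩
    have h1 : (g.toMul : M) ^ m = (g'.toMul : M) ^ m := congrArg Additive.toMul h
    by_contra hgg
    refine hfree (g.toMul * (g'.toMul)⁻¹) (fun h3 => hgg ?_) m hm ?_
    · exact Additive.toMul.injective (mul_inv_eq_one.mp h3)
    · rw [mul_pow, inv_pow, h1, _root_.mul_inv_cancel]
  haveI : Module.Free ℤ (Additive M) := Module.free_of_finite_type_torsion_free'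
  let b := Module.Free.chooseBasis ℤ (Additive M)
  obtain ⟨l⟩ : Nonempty (Module.Free.ChooseBasisIndex ℤ (Additive M)) := b.index_nonempty
  let c : Additive M →+ ZMod n := (Int.castAddHom (ZMod n)).comp (b.coord l).toAddMonoidHom
  refine ⟨AddMonoidHom.toMultiplicativeRight c, fun z => ?_⟩
  obtain ⟨a, ha⟩ := ZMod.intCast_surjective (Multiplicative.toAdd z)
  refine ⟨Additive.toMul (a • b l), ?_⟩
  show Multiplicative.ofAdd (c (a • b l)) = z
  simp [c, ha]

variable {A : Type u} [CommRing A] [HopfAlgebra k A]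

/-- A split torus quotient gives roots of unity. -/
theorem exists_surjective_mu {M : Type u} [CommGroup M] [Group.FG M] [Nontrivial M]
    (hfree : ∀ g : M, g ≠ 1 → ∀ n : ℕ, n ≠ 0 → g ^ n ≠ 1)
    (ψ : A →ₐc[k] MonoidAlgebra k M) (hψ : Function.Surjective ψ) (n : ℕ) :
    ∃ φ : A →ₐc[k] MonoidAlgebra k (Multiplicative (ZMod n)), Function.Surjective φ := by
  obtain ⟨f, hf⟩ := exists_surjective_zmod hfree n
  suffices h : Function.Surjective (MonoidAlgebra.mapDomainBialgHom k f) from
    ⟨(MonoidAlgebra.mapDomainBialgHom k f).comp ψ, h.comp hψ⟩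
  intro z
  induction z using MonoidAlgebra.induction_linear with
  | zero => exact ⟨0, map_zero _⟩
  | add p q hp hq =>
    obtain ⟨p', rfl⟩ := hp
    obtain ⟨q', rfl⟩ := hq
    exact ⟨p' + q', map_add _ _ _⟩
  | single m r =>
    obtain ⟨m', rfl⟩ := hf m
    exact ⟨MonoidAlgebra.single m' r, MonoidAlgebra.mapDomainBialgHom_single _ _ _⟩

/-- Over an algebraically closed field a group without roots of unity has no torus. -/
theorem hasNoSubtorus_of_no_mu [IsAlgClosed k] [Algebra.FiniteType k A] {n : ℕ}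
    (h : ¬ ∃ φ : A →ₐc[k] MonoidAlgebra k (Multiplicative (ZMod n)), Function.Surjective φ) :
    Red.HasNoSubtorus k (sp k A) := by
  intro τ _ j _ _ hτ
  obtain ⟨hTa, hTl, hTs, hTc⟩ := Deform.TorusBasic.props hτ
  haveI := hTa; haveI := hTl; haveI := hTs; haveI := hTc
  haveI : IsAffineHom τ.hom := isAffineHom_of_isAffine _
  haveI : IsAffine (sp k A).left := inferInstanceAs (IsAffine (Spec (CommRingCat.of A)))
  haveI : LocallyOfFiniteType (sp k A).hom :=
    (HasRingHomProperty.Spec_iff (P := @LocallyOfFiniteType)).mpr (RingHom.finiteType_algebraMap.mpr inferInstance)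
  obtain ⟨M, _, hfg, ⟨eT⟩⟩ := Deform.exists_diag τ (Deform.isMultTypeFT_of_isTorus hτ)
  haveI := hfg
  let a : sp k (MonoidAlgebra k M) ≅ τ := (Grp.forget _).mapIso eT
  haveI : IsMonHom a.hom := eT.hom.hom.isMonHom_hom
  haveI : IsIso a.hom.left := ((Over.forget _).mapIso a).isIso_hom
  obtain ⟨B, _, _, _, _, eB, heB⟩ := GrpSchLib.Lang.exists_domain_hopf τ
  haveI := heB
  obtain ⟨eMB⟩ := Deform.nonempty_bialgEquiv (eT ≪≫ (Grp.mkIso' eB).symm)
  haveI : IsDomain (MonoidAlgebra k M) :=
    Function.Injective.isDomain ((eMB.symm : MonoidAlgebra k M →ₐc[k] B) : MonoidAlgebra k M →+* B) eMB.symm.injective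
  haveI : IsClosedImmersion j.left := Borel.isClosedImmersion_of_mono j
  obtain ⟨ψ, hψ⟩ := GrpSchLib.AffineHopf.exists_bialgHom (a.hom ≫ j)
  haveI : IsClosedImmersion (spMap (ψ : A →ₐ[k] MonoidAlgebra k M)).left := by
    rw [← hψ]; exact inferInstanceAs (IsClosedImmersion (a.hom.left ≫ j.left))
  have hs : Function.Surjective ψ :=
    GrpSchLib.AffineHopf.surjective_of_isClosedImmersion (ψ : A →ₐ[k] MonoidAlgebra k M) inferInstance
  rcases subsingleton_or_nontrivial M with hM | hM
  · have hbij : Function.Bijective (algebraMap k (MonoidAlgebra k M)) :=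
      ⟨(algebraMap k (MonoidAlgebra k M)).injective, fun z => by
        induction z using MonoidAlgebra.induction_linear with
        | zero => exact ⟨0, map_zero _⟩
        | add p q hp hq =>
          obtain ⟨p', rfl⟩ := hp
          obtain ⟨q', rfl⟩ := hq
          exact ⟨p' + q', map_add _ _ _⟩
        | single m r => exact ⟨r, by simp [Subsingleton.elim m 1]⟩⟩
    haveI : IsIso (sp k (MonoidAlgebra k M)).hom := isIso_SpecMap_iff.mpr hbij
    show IsIso τ.hom
    rw [← Over.w a.inv]
    infer_instance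
  · exact absurd (exists_surjective_mu (fun g hg m hm => pow_ne_one_of_domain (K := k) g hg m hm) ψ hs n) h

/-- A unipotent group has no nontrivial torus quotient of its coordinate ring. -/
theorem bijective_of_unipotent (hU : HopfRep.IsUnipotent k A) {B : Type u} [CommRing B] [HopfAlgebra k B]
    (φ : A →ₐc[k] B) (hφ : Function.Surjective φ) (hB : SGA3b.IsTorus k B) : Function.Bijective (algebraMap k B) := by
  obtain ⟨S, _, _, n, hS, ⟨e⟩⟩ := MultTypeLib.exists_split_torus k hB
  obtain ⟨m, hm⟩ := Ideal.exists_maximal S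
  let L := S ⧸ m
  letI : Field L := Ideal.Quotient.field m
  let M := ULift.{u} (Multiplicative (Fin n → ℤ))
  obtain ⟨eL⟩ : Nonempty (L ⊗[k] B ≃ₐc[L] MonoidAlgebra L M) := by
    let hom := (MultTypeLib.SemiBialgHom.ofBialgHom (e : S ⊗[k] B →ₐc[S] MonoidAlgebra S M)).comp
      (MultTypeLib.SemiBialgHom.baseChange k S B)
    have hb : Function.Bijective hom.extend := by
      rw [show ⇑hom.extend = ⇑e from funext (MultTypeLib.extend_eq_of_equiv e)]
      exact EquivLike.bijective e
    exact ⟨((MultTypeLib.mapCoeff S L _).comp hom).toBialgEquiv (MultTypeLib.extend_comp_mapCoeff_bijective hom hb)⟩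
  haveI : UniqueSums ℤ := TwoUniqueSums.toUniqueSums ℤ
  haveI : UniqueProds M := (MulEquiv.ulift (α := Multiplicative (Fin n → ℤ))).uniqueProds_iff.mpr inferInstance
  haveI : IsDomain (MonoidAlgebra L M) := NoZeroDivisors.to_isDomain _
  haveI : Group.FG M := Group.fg_of_surjective (f := (MulEquiv.ulift (α := Multiplicative (Fin n → ℤ))).symm.toMonoidHom)
    (MulEquiv.ulift (α := Multiplicative (Fin n → ℤ))).symm.surjective
  let ψ : L ⊗[k] A →ₐc[L] MonoidAlgebra L M :=
    (eL : L ⊗[k] B →ₐc[L] MonoidAlgebra L M).comp (Bialgebra.TensorProduct.map (BialgHom.id L L) φ)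
  have hψ : Function.Surjective ψ := (EquivLike.surjective eL).comp (by
    intro z
    induction z using TensorProduct.induction_on with
    | zero => exact ⟨0, map_zero _⟩
    | tmul l b => obtain ⟨a, rfl⟩ := hφ b; exact ⟨l ⊗ₜ a, rfl⟩
    | add p q hp hq =>
      obtain ⟨p', rfl⟩ := hp
      obtain ⟨q', rfl⟩ := hq
      exact ⟨p' + q', map_add _ _ _⟩)
  rcases subsingleton_or_nontrivial M with hM | hM
  · have hrank : Module.finrank k B = 1 := by
      rw [← Module.finrank_baseChange (R := L), LinearEquiv.finrank_eq eL.toAlgEquiv.toLinearEquiv,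
        LinearEquiv.finrank_eq (MonoidAlgebra.uniqueAlgEquiv (R := L) (A := L) (M := M)).toLinearEquiv,
        Module.finrank_self]
    haveI : Nontrivial B := (Bialgebra.counitAlgHom k B).toRingHom.domain_nontrivial
    refine ⟨(algebraMap k B).injective, fun b => ?_⟩
    obtain ⟨c, hc⟩ := (finrank_eq_one_iff_of_nonzero' (1 : B) one_ne_zero).mp hrank b
    exact ⟨c, by rw [← hc, Algebra.smul_def, _root_.mul_one]⟩
  · haveI : IsMulTorsionFree M := ⟨fun m hm a b h => ULift.ext _ _ (pow_left_injective hm (congrArg ULift.down h))⟩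
    obtain ⟨χ, hχ⟩ := exists_surjective_mu (fun g hg m hm h => hg ((pow_eq_one_iff_left hm).mp h)) ψ hψ 2
    exact absurd hχ (UnipMu.not_surjective_of_isUnipotent (Deform.MultUnip.isUnipotent_baseChange L hU) 2 (by norm_num) χ)

/-- The coordinate ring of a torus is a torus. -/
theorem isTorus_hopf {B : Type u} [CommRing B] [HopfAlgebra k B] {T : Over (Spec (CommRingCat.of k))} [GrpObj T]
    (hT : Red.IsTorus T) (e : Grp.mk (sp k B) ≅ Grp.mk T) : SGA3b.IsTorus k B := by
  let K := AlgebraicClosure k
  obtain ⟨M, _, hfg, ⟨eT⟩⟩ := Deform.exists_diag (Red.bc (yK k K) T)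
    (Deform.isMultTypeFT_of_isTorus (Deform.isTorus_bc _ hT))
  haveI := hfg
  obtain ⟨C, _, _, _, _, eC, heC⟩ := by
    obtain ⟨hTa, hTl, hTs, hTc⟩ := Deform.TorusBasic.props (Deform.isTorus_bc (yK k K) hT)
    haveI := hTa; haveI := hTs; haveI := hTc
    exact GrpSchLib.Lang.exists_domain_hopf (Red.bc (yK k K) T)
  haveI := heC
  obtain ⟨eMC⟩ := Deform.nonempty_bialgEquiv (eT ≪≫ (Grp.mkIso' eC).symm)
  haveI : IsDomain (MonoidAlgebra K M) :=
    Function.Injective.isDomain ((eMC.symm : MonoidAlgebra K M →ₐc[K] C) : MonoidAlgebra K M →+* C) eMC.symm.injective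
  haveI : Module.Finite ℤ (Additive M) := Module.Finite.iff_addGroup_fg.mpr inferInstance
  haveI : IsAddTorsionFree (Additive M) := by
    refine ⟨fun m hm g g' h => ?_⟩
    have h1 : (g.toMul : M) ^ m = (g'.toMul : M) ^ m := congrArg Additive.toMul h
    by_contra hgg
    refine pow_ne_one_of_domain (K := K) (g.toMul * (g'.toMul)⁻¹) (fun h3 => hgg ?_) m hm ?_
    · exact Additive.toMul.injective (mul_inv_eq_one.mp h3)
    · rw [mul_pow, inv_pow, h1, _root_.mul_inv_cancel]
  haveI : Module.Free ℤ (Additive M) := Module.free_of_finite_type_torsion_free'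
  let r := (Module.finBasis ℤ (Additive M)).equivFun.toAddEquiv
  let σ : M ≃* Multiplicative (Fin (Module.finrank ℤ (Additive M)) → ℤ) := AddEquiv.toMultiplicativeRight r
  obtain ⟨g₁⟩ := GrpSchLib.AffineHopf.nonempty_bc_sp (R := k) K B
  obtain ⟨a⟩ := GrpSchLib.MultTypeBC.bc_iso (yK k K) e
  obtain ⟨eK'⟩ := Deform.nonempty_bialgEquiv (g₁.symm ≪≫ a ≪≫ eT.symm)
  let eK := eK'.symm
  refine ⟨{1}, Ideal.span_singleton_one, fun f hf => ?_⟩
  obtain rfl : f = 1 := hf
  let L := Localization.Away (1 : k)
  let eL : k ≃ₐ[k] L := IsLocalization.atUnit k L 1 isUnit_one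
  letI : Algebra L K := ((algebraMap k K).comp eL.symm.toAlgHom.toRingHom).toAlgebra
  haveI : IsScalarTower k L K := IsScalarTower.of_algebraMap_eq fun x => by
    show algebraMap k K x = algebraMap k K (eL.symm (algebraMap k L x))
    rw [AlgEquiv.commutes]
    rfl
  have hL : IsField L := MulEquiv.isField (Field.toIsField k) eL.symm.toMulEquiv
  letI := hL.toField
  haveI : Module.FaithfullyFlat L K := inferInstance
  exact ⟨K, inferInstance, inferInstance, inferInstance, Module.finrank ℤ (Additive M),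
    ⟨(((MultTypeLib.baseChangeTrans (R := k) L K B).symm.trans eK).trans (MonoidAlgebra.domCongrBialgEquiv K K σ))⟩⟩

end Groth.Agent.Deform.TorusExist
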